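import Mathlib
import Groth.Prelude.Def_Found
import Groth.Prelude.Def_EGA4b
import Groth.Agent.CatLib.Basic

/-!
Flat descent of equidimensionality and catenarity for local rings.
-/

set_option autoImplicit false

universe u

open IsLocalRing Order

namespace Groth.Agent.RatliffLib

variable {A : Type u} [CommRing A]

theorem dim_eq_height_closedPoint [IsLocalRing A] :
    ringKrullDim A = ((height (closedPoint A) : ℕ∞) : WithBot ℕ∞) := by
  rw [← maximalIdeal_height_eq_ringKrullDim, ← PrimeSpectrum.height_eq_orderHeight]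
  rfl

theorem height_ne_top' [IsNoetherianRing A] (p : PrimeSpectrum A) : height p ≠ ⊤ := by
  rw [← PrimeSpectrum.height_eq_orderHeight]
  exact Ideal.height_ne_top p.isPrime.ne_top

/-- If all quotients by minimal primes have the same dimension, this is the dimension. -/
theorem isEquidim_of_forall [Nontrivial A] (c : WithBot ℕ∞)
    (h : ∀ q ∈ minimalPrimes A, ringKrullDim (A ⧸ q) = c) : EGA4.IsEquidim A ∧ ringKrullDim A = c := by
  have hdim : ringKrullDim A = c := by
    refine le_antisymm ?_ ?_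
    · refine (krullDim_eq_iSup_coheight (α := PrimeSpectrum A)).le.trans (iSup_le fun p => ?_)
      obtain ⟨q, hq, hle⟩ := Ideal.exists_minimalPrimes_le (I := (⊥ : Ideal A)) (J := p.asIdeal) bot_le
      haveI := hq.1.1
      rw [← h q hq, CatLib.ringKrullDim_quotient_eq_coheight ⟨q, hq.1.1⟩]
      exact WithBot.coe_le_coe.2 (coheight_anti (show (⟨q, hq.1.1⟩ : PrimeSpectrum A) ≤ p from hle))
    · obtain ⟨q, hq⟩ := (Ideal.nonempty_minimalPrimes (I := (⊥ : Ideal A)) bot_ne_top)
      rw [← h q hq]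
      exact ringKrullDim_quotient_le q
  exact ⟨fun q hq => (h q hq).trans hdim.symm, hdim⟩

theorem coheight_eq_of_isEquidim [IsLocalRing A] (h : EGA4.IsEquidim A) {p : PrimeSpectrum A} (hp : IsMin p) :
    coheight p = height (closedPoint A) := by
  have h1 := h p.asIdeal (PrimeSpectrum.isMin_iff.1 hp)
  rw [CatLib.ringKrullDim_quotient_eq_coheight, dim_eq_height_closedPoint] at h1
  exact WithBot.coe_injective h1

theorem isEquidim_of_height_add [IsLocalRing A]
    (h : ∀ p : PrimeSpectrum A, height p + coheight p = height (closedPoint A)) : EGA4.IsEquidim A := by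
  intro q hq
  have h1 := h ⟨q, hq.1.1⟩
  rw [height_eq_zero.2 (PrimeSpectrum.isMin_iff.2 hq), zero_add] at h1
  rw [CatLib.ringKrullDim_quotient_eq_coheight ⟨q, hq.1.1⟩, dim_eq_height_closedPoint, h1]

/-- In an equidimensional catenary local ring height and coheight are complementary. -/
theorem height_add_coheight [IsLocalRing A] [IsNoetherianRing A] (heq : EGA4.IsEquidim A)
    (hcat : CAlg.IsCatenary A) (p : PrimeSpectrum A) : height p + coheight p = height (closedPoint A) := by
  obtain ⟨n, hn⟩ := ENat.ne_top_iff_exists.mp (height_ne_top' p)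
  induction n generalizing p with
  | zero =>
    rw [← hn, Nat.cast_zero, zero_add]
    exact coheight_eq_of_isEquidim heq (height_eq_zero.1 (by rw [← hn, Nat.cast_zero]))
  | succ n ih =>
    obtain ⟨-, ⟨y, hy, hyn⟩, hmax⟩ := height_eq_coe_add_one_iff.mp (by exact_mod_cast hn.symm)
    have hcov : y ⋖ p := by
      refine ⟨hy, fun z hyz hzp => ?_⟩
      have h1 := hmax z hzp
      have h2 : height y + 1 ≤ height z := height_add_one_le hyz
      rw [hyn] at h2
      have h3 : ((n + 1 : ℕ) : ℕ∞) ≤ (n : ℕ∞) := by push_cast; exact h2.trans h1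
      exact absurd (Nat.cast_le.mp h3) (by omega)
    have h1 := ih y hyn.symm
    rw [hyn, (CatLib.isCatenary_iff_coheight.1 hcat) y p hcov] at h1
    rw [← hn, ← h1]
    push_cast
    ring

theorem flat_quot {B : Type u} [CommRing B] [Algebra A B] [Module.Flat A B] (J : Ideal A) :
    Module.Flat (A ⧸ J) (B ⧸ J.map (algebraMap A B)) := by
  let e : TensorProduct A (A ⧸ J) B ≃ₐ[A] B ⧸ J.map (algebraMap A B) :=
    (Algebra.TensorProduct.comm A (A ⧸ J) B).trans
      ((Algebra.TensorProduct.quotIdealMapEquivTensorQuot B J).restrictScalars A).symm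
  exact Module.Flat.of_linearEquiv (e.toLinearEquiv.extendScalarsOfSurjective
    (show Function.Surjective (algebraMap A (A ⧸ J)) from Ideal.Quotient.mk_surjective)).symm

section Flat

variable {A' : Type u} [CommRing A'] [IsLocalRing A] [IsLocalRing A'] [Algebra A A'] [IsLocalHom (algebraMap A A')]
variable [IsNoetherianRing A']

omit [IsNoetherianRing A'] in
theorem map_le_maximal (I : Ideal A) (hI : I ≠ ⊤) : I.map (algebraMap A A') ≤ maximalIdeal A' :=
  (Ideal.map_mono (le_maximalIdeal hI)).trans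
    (((local_hom_TFAE (algebraMap A A')).out 0 2 rfl rfl).mp inferInstance)

theorem dim_flat_local [IsNoetherianRing A] [Module.Flat A A'] :
    ringKrullDim A' = ringKrullDim A + ringKrullDim (A' ⧸ (maximalIdeal A).map (algebraMap A A')) := by
  haveI : (maximalIdeal A').LiesOver (maximalIdeal A) :=
    ⟨(((local_hom_TFAE (algebraMap A A')).out 0 4 rfl rfl).mp inferInstance).symm⟩
  set J := (maximalIdeal A).map (algebraMap A A') with hJ
  haveI : Nontrivial (A' ⧸ J) := Ideal.Quotient.nontrivial_iff.2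
    fun h => (maximalIdeal.isMaximal A').ne_top (top_le_iff.1 (h ▸ map_le_maximal _ (maximalIdeal.isMaximal A).ne_top))
  haveI : IsLocalRing (A' ⧸ J) := IsLocalRing.of_surjective' _ Ideal.Quotient.mk_surjective
  rw [← maximalIdeal_height_eq_ringKrullDim, ← maximalIdeal_height_eq_ringKrullDim,
    ← maximalIdeal_height_eq_ringKrullDim (R := A' ⧸ J),
    Ideal.height_eq_height_add_of_liesOver_of_hasGoingDown (maximalIdeal A) (maximalIdeal A'), ← hJ,
    WithBot.coe_add]
  haveI : IsLocalHom (Ideal.Quotient.mk J) := Ideal.Quotient.mk_surjective.isLocalHom _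
  rw [IsLocalRing.map_maximalIdeal_of_surjective _ Ideal.Quotient.mk_surjective]

omit [IsLocalRing A] [IsLocalRing A'] [IsLocalHom (algebraMap A A')] in
theorem under_eq_of_minimal [Algebra.HasGoingDown A A'] {p : Ideal A} [p.IsPrime] {P : Ideal A'}
    (hP : P ∈ (p.map (algebraMap A A')).minimalPrimes) : P.under A = p := by
  haveI := hP.1.1
  have hle : p ≤ P.under A := Ideal.map_le_iff_le_comap.1 hP.1.2
  haveI : P.LiesOver (P.under A) := ⟨rfl⟩
  obtain ⟨Q, hQle, hQp, hQlo⟩ := Ideal.exists_ideal_le_liesOver_of_le (S := A') P hle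
  rw [le_antisymm (hP.2 ⟨hQp, Ideal.map_le_iff_le_comap.2 hQlo.over.le⟩ hQle) hQle]
  exact hQlo.over.symm

omit [IsLocalRing A] [IsLocalRing A'] [IsLocalHom (algebraMap A A')] in
theorem height_eq_of_minimal [IsNoetherianRing A] [Module.Flat A A'] {p : Ideal A} [p.IsPrime] {P : Ideal A'}
    (hP : P ∈ (p.map (algebraMap A A')).minimalPrimes) : P.height = p.height := by
  haveI := hP.1.1
  haveI : P.LiesOver p := ⟨(under_eq_of_minimal hP).symm⟩
  rw [Ideal.height_eq_height_add_of_liesOver_of_hasGoingDown p P]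
  have hmin' : P.map (Ideal.Quotient.mk (p.map (algebraMap A A'))) ∈
      (⊥ : Ideal (A' ⧸ p.map (algebraMap A A'))).minimalPrimes := by
    rw [← Ideal.map_quotient_self (p.map (algebraMap A A')),
      Ideal.minimalPrimes_map_of_surjective Ideal.Quotient.mk_surjective]
    exact ⟨P, by rwa [Ideal.mk_ker, sup_idem], rfl⟩
  have hmin : P.map (Ideal.Quotient.mk (p.map (algebraMap A A'))) ∈ minimalPrimes _ := hmin'
  haveI := hmin.1.1
  rw [Ideal.height_eq_zero_iff.2 hmin, add_zero]

variable [IsNoetherianRing A] [Module.Flat A A']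

/-- The fibre over a prime of a flat local homomorphism into an equidimensional catenary ring is equidimensional,
of dimension `dim A' - height p`. -/
theorem isEquidim_fibre (heq : EGA4.IsEquidim A') (hcat : CAlg.IsCatenary A') (p : PrimeSpectrum A) :
    EGA4.IsEquidim (A' ⧸ p.asIdeal.map (algebraMap A A')) ∧
      ((height p : ℕ∞) : WithBot ℕ∞) + ringKrullDim (A' ⧸ p.asIdeal.map (algebraMap A A')) = ringKrullDim A' := by
  set J := p.asIdeal.map (algebraMap A A')
  haveI : Nontrivial (A' ⧸ J) := Ideal.Quotient.nontrivial_iff.2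
    fun h => (maximalIdeal.isMaximal A').ne_top (top_le_iff.1 (h ▸ map_le_maximal _ p.isPrime.ne_top))
  obtain ⟨n, hn⟩ := ENat.ne_top_iff_exists.mp (height_ne_top' p)
  obtain ⟨D, hD⟩ := ENat.ne_top_iff_exists.mp (height_ne_top' (closedPoint A'))
  have key : ∀ q ∈ minimalPrimes (A' ⧸ J), ringKrullDim ((A' ⧸ J) ⧸ q) = ((D - n : ℕ) : ℕ∞) ∧ n ≤ D := by
    intro q hq
    let P : Ideal A' := q.comap (Ideal.Quotient.mk J)
    haveI := hq.1.1
    have hPmin : P ∈ J.minimalPrimes := by
      have := Ideal.minimalPrimes_comap_of_surjective (f := Ideal.Quotient.mk J) Ideal.Quotient.mk_surjective hq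
      rwa [← RingHom.ker_eq_comap_bot, Ideal.mk_ker] at this
    have hh : height (⟨P, hPmin.1.1⟩ : PrimeSpectrum A') = n := by
      rw [← PrimeSpectrum.height_eq_orderHeight, hn, ← PrimeSpectrum.height_eq_orderHeight]
      exact height_eq_of_minimal hPmin
    have h1 := height_add_coheight heq hcat ⟨P, hPmin.1.1⟩
    rw [hh, ← hD] at h1
    obtain ⟨a, ha⟩ := ENat.ne_top_iff_exists.mp (CatLib.coheight_ne_top (⟨P, hPmin.1.1⟩ : PrimeSpectrum A'))
    rw [← ha] at h1
    have h2 : n + a = D := by exact_mod_cast h1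
    refine ⟨?_, by omega⟩
    rw [ringKrullDim_eq_of_ringEquiv ((Ideal.quotEquivOfEq
      (Ideal.map_comap_of_surjective _ Ideal.Quotient.mk_surjective q)).symm.trans
      (DoubleQuot.quotQuotEquivQuotOfLE hPmin.1.2)), CatLib.ringKrullDim_quotient_eq_coheight ⟨P, hPmin.1.1⟩,
      ← ha, show D - n = a by omega]
  obtain ⟨q, hq⟩ := (Ideal.nonempty_minimalPrimes (I := (⊥ : Ideal (A' ⧸ J))) bot_ne_top)
  obtain ⟨h1, h2⟩ := isEquidim_of_forall (A := A' ⧸ J) _ fun q hq => (key q hq).1
  refine ⟨h1, ?_⟩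
  rw [h2, dim_eq_height_closedPoint, ← hD, ← hn, ← WithBot.coe_add, ← Nat.cast_add, Nat.add_sub_cancel' (key q hq).2]

theorem height_add_coheight_of_flat (heq : EGA4.IsEquidim A') (hcat : CAlg.IsCatenary A') (p : PrimeSpectrum A) :
    height p + coheight p = height (closedPoint A) := by
  set J := p.asIdeal.map (algebraMap A A')
  haveI : Nontrivial (A' ⧸ J) := Ideal.Quotient.nontrivial_iff.2
    fun h => (maximalIdeal.isMaximal A').ne_top (top_le_iff.1 (h ▸ map_le_maximal _ p.isPrime.ne_top))
  haveI : IsLocalRing (A' ⧸ J) := IsLocalRing.of_surjective' _ Ideal.Quotient.mk_surjective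
  haveI : IsLocalRing (A ⧸ p.asIdeal) := IsLocalRing.of_surjective' _ Ideal.Quotient.mk_surjective
  haveI := flat_quot (B := A') p.asIdeal
  haveI : IsLocalHom (Ideal.Quotient.mk p.asIdeal) := Ideal.Quotient.mk_surjective.isLocalHom _
  haveI : IsLocalHom (Ideal.Quotient.mk J) := Ideal.Quotient.mk_surjective.isLocalHom _
  haveI : IsLocalHom (algebraMap (A ⧸ p.asIdeal) (A' ⧸ J)) := by
    refine ⟨fun x hx => ?_⟩
    obtain ⟨a, rfl⟩ := Ideal.Quotient.mk_surjective x
    have h1 : IsUnit (Ideal.Quotient.mk J (algebraMap A A' a)) := hx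
    exact (isUnit_of_map_unit (algebraMap A A') a (isUnit_of_map_unit _ _ h1)).map _
  have hmap : (maximalIdeal (A ⧸ p.asIdeal)).map (algebraMap (A ⧸ p.asIdeal) (A' ⧸ J)) =
      ((maximalIdeal A).map (algebraMap A A')).map (Ideal.Quotient.mk J) := by
    rw [← IsLocalRing.map_maximalIdeal_of_surjective (Ideal.Quotient.mk p.asIdeal) Ideal.Quotient.mk_surjective,
      Ideal.map_map, Ideal.map_map]
    rfl
  have h1 := dim_flat_local (A := A ⧸ p.asIdeal) (A' := A' ⧸ J)
  have h2 := dim_flat_local (A := A) (A' := A')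
  have hd : ringKrullDim ((A' ⧸ J) ⧸ (maximalIdeal (A ⧸ p.asIdeal)).map (algebraMap (A ⧸ p.asIdeal) (A' ⧸ J))) =
      ringKrullDim (A' ⧸ (maximalIdeal A).map (algebraMap A A')) :=
    ringKrullDim_eq_of_ringEquiv ((Ideal.quotEquivOfEq hmap).trans
      (DoubleQuot.quotQuotEquivQuotOfLE (Ideal.map_mono (le_maximalIdeal p.isPrime.ne_top))))
  rw [hd, CatLib.ringKrullDim_quotient_eq_coheight] at h1
  have h3 := (isEquidim_fibre heq hcat p).2
  rw [h1, h2, dim_eq_height_closedPoint (A := A)] at h3
  haveI : Nontrivial (A' ⧸ (maximalIdeal A).map (algebraMap A A')) := Ideal.Quotient.nontrivial_iff.2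
    fun h => (maximalIdeal.isMaximal A').ne_top (top_le_iff.1 (h ▸ map_le_maximal _ (maximalIdeal.isMaximal A).ne_top))
  haveI : IsLocalRing (A' ⧸ (maximalIdeal A).map (algebraMap A A')) :=
    IsLocalRing.of_surjective' _ Ideal.Quotient.mk_surjective
  rw [dim_eq_height_closedPoint (A := A' ⧸ (maximalIdeal A).map (algebraMap A A'))] at h3
  obtain ⟨e, he⟩ := ENat.ne_top_iff_exists.mp
    (height_ne_top' (closedPoint (A' ⧸ (maximalIdeal A).map (algebraMap A A'))))
  rw [← he, ← WithBot.coe_add, ← WithBot.coe_add, ← WithBot.coe_add, WithBot.coe_inj, ← add_assoc] at h3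
  exact WithTop.add_right_cancel (ENat.coe_ne_top e) h3

omit [IsLocalRing A'] [IsLocalHom (algebraMap A A')] [IsNoetherianRing A] in
theorem coheight_mapped {p q : PrimeSpectrum A} (hpq : p ≤ q) :
    ∃ q' : PrimeSpectrum (A ⧸ p.asIdeal), PrimeSpectrum.comap (Ideal.Quotient.mk p.asIdeal) q' = q ∧
      coheight q' = coheight q := by
  haveI : (q.asIdeal.map (Ideal.Quotient.mk p.asIdeal)).IsPrime :=
    Ideal.map_isPrime_of_surjective Ideal.Quotient.mk_surjective (by rwa [Ideal.mk_ker])
  refine ⟨⟨q.asIdeal.map (Ideal.Quotient.mk p.asIdeal), inferInstance⟩, PrimeSpectrum.ext ?_, ?_⟩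
  · show (q.asIdeal.map (Ideal.Quotient.mk p.asIdeal)).comap (Ideal.Quotient.mk p.asIdeal) = q.asIdeal
    rw [Ideal.comap_map_of_surjective _ Ideal.Quotient.mk_surjective, ← RingHom.ker_eq_comap_bot,
      Ideal.mk_ker, sup_eq_left.mpr hpq]
  · apply WithBot.coe_injective
    rw [← CatLib.ringKrullDim_quotient_eq_coheight, ← CatLib.ringKrullDim_quotient_eq_coheight]
    exact ringKrullDim_eq_of_ringEquiv (DoubleQuot.quotQuotEquivQuotOfLE hpq)

/-- Flat descent: if `A → A'` is flat local with `A'` equidimensional catenary, so is `A`. -/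
theorem isEquidim_and_isCatenary_of_flat (heq : EGA4.IsEquidim A') (hcat : CAlg.IsCatenary A') :
    EGA4.IsEquidim A ∧ CAlg.IsCatenary A := by
  refine ⟨isEquidim_of_height_add (height_add_coheight_of_flat heq hcat),
    CatLib.isCatenary_iff_coheight.2 fun p q hpq => ?_⟩
  set J := p.asIdeal.map (algebraMap A A')
  haveI : Nontrivial (A' ⧸ J) := Ideal.Quotient.nontrivial_iff.2
    fun h => (maximalIdeal.isMaximal A').ne_top (top_le_iff.1 (h ▸ map_le_maximal _ p.isPrime.ne_top))
  haveI : IsLocalRing (A' ⧸ J) := IsLocalRing.of_surjective' _ Ideal.Quotient.mk_surjective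
  haveI : IsLocalRing (A ⧸ p.asIdeal) := IsLocalRing.of_surjective' _ Ideal.Quotient.mk_surjective
  haveI := flat_quot (B := A') p.asIdeal
  haveI : IsLocalHom (Ideal.Quotient.mk J) := Ideal.Quotient.mk_surjective.isLocalHom _
  haveI : IsLocalHom (algebraMap (A ⧸ p.asIdeal) (A' ⧸ J)) := by
    refine ⟨fun x hx => ?_⟩
    obtain ⟨a, rfl⟩ := Ideal.Quotient.mk_surjective x
    have h1 : IsUnit (Ideal.Quotient.mk J (algebraMap A A' a)) := hx
    exact (isUnit_of_map_unit (algebraMap A A') a (isUnit_of_map_unit _ _ h1)).map _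
  have hB := height_add_coheight_of_flat (A := A ⧸ p.asIdeal) (A' := A' ⧸ J) (isEquidim_fibre heq hcat p).1
    (CatLib.isCatenary_quotient J hcat)
  obtain ⟨q', hq', hcq⟩ := coheight_mapped hpq.le
  obtain ⟨p', hp', hcp⟩ := coheight_mapped (le_refl p)
  have hbot : p'.asIdeal = ⊥ := by
    have := congrArg (fun x : PrimeSpectrum A => x.asIdeal.map (Ideal.Quotient.mk p.asIdeal)) hp'
    simp only [PrimeSpectrum.comap_asIdeal, Ideal.map_comap_of_surjective _ Ideal.Quotient.mk_surjective,
      Ideal.map_quotient_self] at this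
    exact this
  have hh : height q' = 1 := by
    have hlt : p' < q' := lt_of_le_of_ne (show p'.asIdeal ≤ q'.asIdeal by rw [hbot]; exact bot_le) fun h => by
      rw [h, hq'] at hp'
      exact hpq.ne hp'.symm
    refine le_antisymm ?_ ?_
    · refine height_le_coe_iff.2 fun y hy => ?_
      have hy' : IsMin y := by
        by_contra hne
        obtain ⟨z, hz⟩ := not_isMin_iff.1 hne
        have hpz : p ≤ PrimeSpectrum.comap (Ideal.Quotient.mk p.asIdeal) z := fun a ha => by
          show Ideal.Quotient.mk p.asIdeal a ∈ z.asIdeal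
          rw [Ideal.Quotient.eq_zero_iff_mem.2 ha]
          exact zero_mem _
        have hmono := RingHom.strictMono_comap_of_surjective (f := Ideal.Quotient.mk p.asIdeal)
          Ideal.Quotient.mk_surjective
        exact hpq.2 (lt_of_le_of_lt hpz (hmono hz)) (hq' ▸ hmono hy)
      rw [height_eq_zero.2 hy']
      exact zero_lt_one
    · exact Order.one_le_iff_ne_zero.2 fun h0 => (height_eq_zero.1 h0).not_lt hlt
  have h1 := hB q'
  have h2 := hB p'
  rw [hh, hcq] at h1
  rw [height_eq_zero.2 (show IsMin p' from fun z _ => show p'.asIdeal ≤ z.asIdeal by rw [hbot]; exact bot_le),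
    zero_add, hcp, ← h1, add_comm] at h2
  exact h2

end Flat

end Groth.Agent.RatliffLib
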