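import Mathlib
import Groth.Agent.RatliffLib.Equidim
import Groth.Agent.CMCat.Polynomial
import Groth.Agent.CMCat.FormallyCat
import Groth.Agent.CMGraded.FlatCM
import Groth.Agent.ResExt.Flat
import Groth.Agent.S0580
import Groth.Agent.S5784

/-!
Complete Noetherian local rings are quotients of regular local rings; formally equidimensional rings.
-/

set_option autoImplicit false

universe u

open IsLocalRing

namespace Groth.Agent.RatliffLib

theorem cm_of_regularLocal (R : Type u) [CommRing R] [IsRegularLocalRing R] :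
    LocCoh.IsCohenMacaulayLocalRing R := by
  obtain ⟨x, hx⟩ := RegLocal.exists_generators R
  have hreg := RegLocal.isRegular_of_generators R (IsRegularLocalRing.spanFinrank_maximalIdeal (R := R)).symm x hx
  refine CMGraded.isCohenMacaulayLocalRing_of_seq (rs := List.ofFn x) ?_ hreg.toIsWeaklyRegular ?_
  · intro r hr
    obtain ⟨i, rfl⟩ := List.mem_ofFn.1 hr
    exact hx ▸ Ideal.subset_span ⟨i, rfl⟩
  · rw [List.length_ofFn, IsRegularLocalRing.spanFinrank_maximalIdeal (R := R)]

/-- A complete Noetherian local ring is a quotient of a regular local ring. -/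
theorem exists_regular_surjective (A : Type u) [CommRing A] [IsLocalRing A] [IsNoetherianRing A]
    [IsAdicComplete (maximalIdeal A) A] :
    ∃ (S : Type u) (_ : CommRing S) (_ : IsRegularLocalRing S) (f : S →+* A), Function.Surjective f := by
  obtain ⟨Λ, _, n, f, hΛ, hf⟩ := S0580.result A (IsNoetherian.noetherian _)
  obtain ⟨hl, hr⟩ : IsLocalRing Λ ∧ IsRegularRing Λ := by
    rcases hΛ with hΛ | ⟨_, hdvr, -⟩
    · letI := hΛ.toField
      exact ⟨inferInstance, inferInstance⟩
    · haveI := hdvr
      exact ⟨inferInstance, inferInstance⟩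
  haveI := hl
  haveI := hr
  haveI := S5784.result Λ n
  exact ⟨MvPowerSeries (Fin n) Λ, inferInstance, IsRegularLocalRing.of_isRegularRing_of_isLocalRing _, f, hf⟩

theorem isCatenary_of_ringEquiv {R S : Type u} [CommRing R] [CommRing S] (e : R ≃+* S) (h : CAlg.IsCatenary R) :
    CAlg.IsCatenary S :=
  CatLib.isCatenary_of_convex (PrimeSpectrum.comapEquiv e).symm.toOrderEmbedding
    (by
      rw [Set.range_eq_univ.2 (show Function.Surjective ((PrimeSpectrum.comapEquiv e).symm.toOrderEmbedding) from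
        (PrimeSpectrum.comapEquiv e).symm.surjective)]
      exact Set.ordConnected_univ) h

theorem isUniversallyCatenary_of_surjective {R S : Type u} [CommRing R] [CommRing S] (f : R →+* S)
    (hf : Function.Surjective f) (h : CAlg.IsUniversallyCatenary R) : CAlg.IsUniversallyCatenary S := by
  obtain ⟨hn, h⟩ := h
  haveI := hn
  refine ⟨isNoetherianRing_of_surjective R S f hf, fun T _ _ hT => ?_⟩
  letI : Algebra R S := f.toAlgebra
  letI : Algebra R T := ((algebraMap S T).comp f).toAlgebra
  haveI : IsScalarTower R S T := IsScalarTower.of_algebraMap_eq fun _ => rfl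
  haveI := hT
  haveI : Algebra.FiniteType R S := Algebra.FiniteType.of_surjective (Algebra.ofId R S) hf
  exact h T (Algebra.FiniteType.trans ‹_› hT)

theorem isCatenary_of_isUniversallyCatenary {R : Type u} [CommRing R] (h : CAlg.IsUniversallyCatenary R) :
    CAlg.IsCatenary R :=
  h.2 R inferInstance

section Complete

variable (A : Type u) [CommRing A] [IsLocalRing A] [IsNoetherianRing A]

theorem isUniversallyCatenary_of_complete [IsAdicComplete (maximalIdeal A) A] : CAlg.IsUniversallyCatenary A := by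
  obtain ⟨S, _, _, f, hf⟩ := exists_regular_surjective A
  haveI := cm_of_regularLocal S
  exact isUniversallyCatenary_of_surjective f hf CMCat.isUniversallyCatenary_of_cmLocal

theorem isFormallyCatenary_of_complete [IsAdicComplete (maximalIdeal A) A] : EGA4.IsFormallyCatenary A := by
  obtain ⟨S, _, _, f, hf⟩ := exists_regular_surjective A
  haveI := cm_of_regularLocal S
  letI := f.toAlgebra
  exact CMCat.isFormallyCatenary_of_quotient (A := S) (B := A) hf

/-- The completion of a Noetherian local ring: basic instances. -/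
theorem compl_facts :
    ∃ (_ : IsLocalRing (AdicCompletion (maximalIdeal A) A)),
      IsNoetherianRing (AdicCompletion (maximalIdeal A) A) ∧
      IsAdicComplete (maximalIdeal (AdicCompletion (maximalIdeal A) A)) (AdicCompletion (maximalIdeal A) A) ∧
      IsLocalHom (algebraMap A (AdicCompletion (maximalIdeal A) A)) ∧
      maximalIdeal (AdicCompletion (maximalIdeal A) A) =
        (maximalIdeal A).map (algebraMap A (AdicCompletion (maximalIdeal A) A)) := by
  have hm := (maximalIdeal.isMaximal A).ne_top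
  haveI := RegLocal.isLocalRing_completion A (maximalIdeal A) hm
  have hmax := RegLocal.maximalIdeal_completion A (maximalIdeal A) hm
  refine ⟨inferInstance, RegLocal.isNoetherianRing_completion A _, ?_, ?_, hmax⟩
  · rw [hmax]
    exact AdicCompletion.isAdicComplete_self _ (maximalIdeal A).fg_of_isNoetherianRing
  · refine ((local_hom_TFAE _).out 0 2).mpr ?_
    rw [hmax]

theorem isUniversallyCatenary_completion : CAlg.IsUniversallyCatenary (AdicCompletion (maximalIdeal A) A) := by
  obtain ⟨_, _, _, _, _⟩ := compl_facts A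
  exact isUniversallyCatenary_of_complete _

variable {A}

theorem isEquidim_and_isCatenary_of_formallyEquidim (h : EGA4.IsFormallyEquidim A) :
    EGA4.IsEquidim A ∧ CAlg.IsCatenary A := by
  obtain ⟨_, _, _, _, _⟩ := compl_facts A
  exact isEquidim_and_isCatenary_of_flat (A' := AdicCompletion (maximalIdeal A) A) h
    (isCatenary_of_isUniversallyCatenary (isUniversallyCatenary_completion A))

end Complete

section Ideal

variable {A A' : Type u} [CommRing A] [CommRing A'] [IsLocalRing A] [IsLocalRing A'] [Algebra A A']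
  [IsLocalHom (algebraMap A A')] [IsNoetherianRing A] [IsNoetherianRing A'] [Module.Flat A A']

theorem dim_quotient_map (a : Ideal A) (ha : a ≠ ⊤) :
    ringKrullDim (A' ⧸ a.map (algebraMap A A')) =
      ringKrullDim (A ⧸ a) + ringKrullDim (A' ⧸ (maximalIdeal A).map (algebraMap A A')) := by
  set J := a.map (algebraMap A A')
  haveI : Nontrivial (A' ⧸ J) := Ideal.Quotient.nontrivial_iff.2
    fun h => (maximalIdeal.isMaximal A').ne_top (top_le_iff.1 (h ▸ map_le_maximal _ ha))
  haveI : IsLocalRing (A' ⧸ J) := IsLocalRing.of_surjective' _ Ideal.Quotient.mk_surjective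
  haveI : Nontrivial (A ⧸ a) := Ideal.Quotient.nontrivial_iff.2 ha
  haveI : IsLocalRing (A ⧸ a) := IsLocalRing.of_surjective' _ Ideal.Quotient.mk_surjective
  haveI := flat_quot (B := A') a
  haveI : IsLocalHom (Ideal.Quotient.mk a) := Ideal.Quotient.mk_surjective.isLocalHom _
  haveI : IsLocalHom (Ideal.Quotient.mk J) := Ideal.Quotient.mk_surjective.isLocalHom _
  haveI : IsLocalHom (algebraMap (A ⧸ a) (A' ⧸ J)) := by
    refine ⟨fun x hx => ?_⟩
    obtain ⟨a', rfl⟩ := Ideal.Quotient.mk_surjective x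
    have h1 : IsUnit (Ideal.Quotient.mk J (algebraMap A A' a')) := hx
    exact (isUnit_of_map_unit (algebraMap A A') a' (isUnit_of_map_unit _ _ h1)).map _
  have hmap : (maximalIdeal (A ⧸ a)).map (algebraMap (A ⧸ a) (A' ⧸ J)) =
      ((maximalIdeal A).map (algebraMap A A')).map (Ideal.Quotient.mk J) := by
    rw [← IsLocalRing.map_maximalIdeal_of_surjective (Ideal.Quotient.mk a) Ideal.Quotient.mk_surjective,
      Ideal.map_map, Ideal.map_map]
    rfl
  rw [dim_flat_local (A := A ⧸ a) (A' := A' ⧸ J)]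
  congr 1
  exact ringKrullDim_eq_of_ringEquiv ((Ideal.quotEquivOfEq hmap).trans
    (DoubleQuot.quotQuotEquivQuotOfLE (Ideal.map_mono (le_maximalIdeal ha))))

/-- For `A → A'` flat local with closed fibre of dimension `0` and `A'` equidimensional catenary,
`A'/aA'` is equidimensional iff `A/a` is. -/
theorem isEquidim_quotient_map_iff (heq : EGA4.IsEquidim A') (hcat : CAlg.IsCatenary A')
    (h0 : ringKrullDim (A' ⧸ (maximalIdeal A).map (algebraMap A A')) = 0) (a : Ideal A) :
    EGA4.IsEquidim (A' ⧸ a.map (algebraMap A A')) ↔ EGA4.IsEquidim (A ⧸ a) := by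
  set J := a.map (algebraMap A A')
  by_cases ha : a = ⊤
  · have hJ : J = ⊤ := by rw [show J = a.map (algebraMap A A') from rfl, ha, Ideal.map_top]
    haveI : Subsingleton (A' ⧸ J) := Ideal.Quotient.subsingleton_iff.2 hJ
    haveI : Subsingleton (A ⧸ a) := Ideal.Quotient.subsingleton_iff.2 ha
    exact ⟨fun _ q hq => absurd (Subsingleton.elim _ _) hq.1.1.ne_top,
      fun _ q hq => absurd (Subsingleton.elim _ _) hq.1.1.ne_top⟩
  have hdim : ringKrullDim (A' ⧸ J) = ringKrullDim (A ⧸ a) := by
    rw [dim_quotient_map a ha, h0, add_zero]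
  have key : ∀ P ∈ J.minimalPrimes, P.under A ∈ a.minimalPrimes ∧
      ringKrullDim (A' ⧸ P) = ringKrullDim (A ⧸ P.under A) := by
    intro P hP
    haveI := hP.1.1
    have hle : a ≤ P.under A := Ideal.map_le_iff_le_comap.1 hP.1.2
    have hmin : P.under A ∈ a.minimalPrimes := by
      refine ⟨⟨inferInstance, hle⟩, fun q hq hqle => ?_⟩
      haveI := hq.1
      haveI : P.LiesOver (P.under A) := ⟨rfl⟩
      obtain ⟨Q, hQle, hQp, hQlo⟩ := Ideal.exists_ideal_le_liesOver_of_le (S := A') P hqle
      have hJQ : J ≤ Q := Ideal.map_le_iff_le_comap.2 (hq.2.trans hQlo.over.le)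
      rw [le_antisymm (hP.2 ⟨hQp, hJQ⟩ hQle) hQle]
      exact hQlo.over.symm.le
    refine ⟨hmin, ?_⟩
    let p : Ideal A := P.under A
    have hPp : P ∈ (p.map (algebraMap A A')).minimalPrimes :=
      ⟨⟨hP.1.1, Ideal.map_le_iff_le_comap.2 le_rfl⟩,
        fun Q hQ hQP => hP.2 ⟨hQ.1, (Ideal.map_mono hle).trans hQ.2⟩ hQP⟩
    obtain ⟨heq', -⟩ := isEquidim_fibre heq hcat ⟨p, inferInstance⟩
    let K := p.map (algebraMap A A')
    have hq : P.map (Ideal.Quotient.mk K) ∈ (⊥ : Ideal (A' ⧸ K)).minimalPrimes := by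
      rw [← Ideal.map_quotient_self K, Ideal.minimalPrimes_map_of_surjective Ideal.Quotient.mk_surjective]
      exact ⟨P, by rwa [Ideal.mk_ker, sup_idem], rfl⟩
    have h1 := heq' (P.map (Ideal.Quotient.mk K)) hq
    rw [ringKrullDim_eq_of_ringEquiv (DoubleQuot.quotQuotEquivQuotOfLE hPp.1.2)] at h1
    rw [h1, dim_quotient_map p (Ideal.IsPrime.ne_top inferInstance), h0, add_zero]
  have htrans : ∀ {R : Type u} [CommRing R] (I : Ideal R),
      EGA4.IsEquidim (R ⧸ I) ↔ ∀ P ∈ I.minimalPrimes, ringKrullDim (R ⧸ P) = ringKrullDim (R ⧸ I) := by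
    intro R _ I
    constructor
    · intro h P hP
      have hq : P.map (Ideal.Quotient.mk I) ∈ (⊥ : Ideal (R ⧸ I)).minimalPrimes := by
        rw [← Ideal.map_quotient_self I, Ideal.minimalPrimes_map_of_surjective Ideal.Quotient.mk_surjective]
        exact ⟨P, by rwa [Ideal.mk_ker, sup_idem], rfl⟩
      rw [← ringKrullDim_eq_of_ringEquiv (DoubleQuot.quotQuotEquivQuotOfLE hP.1.2)]
      exact h _ hq
    · intro h q hq
      have hP : q.comap (Ideal.Quotient.mk I) ∈ I.minimalPrimes := by
        have := Ideal.minimalPrimes_comap_of_surjective (f := Ideal.Quotient.mk I) Ideal.Quotient.mk_surjective hq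
        rwa [← RingHom.ker_eq_comap_bot, Ideal.mk_ker] at this
      rw [← h _ hP, ← ringKrullDim_eq_of_ringEquiv (DoubleQuot.quotQuotEquivQuotOfLE hP.1.2)]
      exact ringKrullDim_eq_of_ringEquiv
        (Ideal.quotEquivOfEq (Ideal.map_comap_of_surjective _ Ideal.Quotient.mk_surjective q).symm)
  rw [htrans, htrans]
  refine ⟨fun h p hp => ?_, fun h P hP => ?_⟩
  · haveI := hp.1.1
    haveI : Module.FaithfullyFlat A A' := Module.FaithfullyFlat.of_flat_of_isLocalHom
    obtain ⟨⟨Q, hQ⟩, hQp⟩ := PrimeSpectrum.comap_surjective_of_faithfullyFlat (A := A) (B := A') ⟨p, hp.1.1⟩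
    have hQ' : Q.under A = p := congrArg PrimeSpectrum.asIdeal hQp
    have hJQ : J ≤ Q := Ideal.map_le_iff_le_comap.2 (hp.1.2.trans hQ'.ge)
    obtain ⟨P, hP, hPQ⟩ := Ideal.exists_minimalPrimes_le hJQ
    obtain ⟨h1, h2⟩ := key P hP
    have hPp : P.under A = p :=
      le_antisymm ((Ideal.comap_mono hPQ).trans hQ'.le) (hp.2 h1.1 ((Ideal.comap_mono hPQ).trans hQ'.le))
    rw [← hdim, ← h P hP, h2, hPp]
  · obtain ⟨h1, h2⟩ := key P hP
    rw [h2, hdim, h _ h1]

end Ideal

section Completion

variable {A : Type u} [CommRing A] [IsLocalRing A] [IsNoetherianRing A]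

theorem closedFibre_completion :
    ringKrullDim (AdicCompletion (maximalIdeal A) A ⧸
      (maximalIdeal A).map (algebraMap A (AdicCompletion (maximalIdeal A) A))) = 0 := by
  obtain ⟨_, _, _, _, hmax⟩ := compl_facts A
  rw [← hmax]
  exact ringKrullDim_eq_zero_of_isField ((Ideal.Quotient.maximal_ideal_iff_isField_quotient _).1 inferInstance)

/-- `A` is formally equidimensional iff it is equidimensional and every `A/p`, `p` minimal, is. -/
theorem isFormallyEquidim_iff :
    EGA4.IsFormallyEquidim A ↔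
      (EGA4.IsEquidim A ∧ ∀ (p : Ideal A) [p.IsPrime], p ∈ minimalPrimes A → EGA4.IsFormallyEquidim (A ⧸ p)) := by
  obtain ⟨_, _, hc, _, hmax⟩ := compl_facts A
  have hcat := isCatenary_of_isUniversallyCatenary (isUniversallyCatenary_completion A)
  constructor
  · intro h
    refine ⟨(isEquidim_and_isCatenary_of_formallyEquidim h).1, fun p _ hp => ?_⟩
    haveI : IsLocalRing (A ⧸ p) := IsLocalRing.of_surjective' _ Ideal.Quotient.mk_surjective
    obtain ⟨e, -⟩ := CMCat.exists_complQuotEquiv p
    exact CMCat.isEquidim_of_ringEquiv e (isEquidim_fibre h hcat ⟨p, inferInstance⟩).1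
  · rintro ⟨heq, h⟩ P hP
    haveI := hP.1.1
    let p : Ideal A := P.under A
    have hp : p ∈ minimalPrimes A := by
      refine ⟨⟨inferInstance, bot_le⟩, fun q hq hqle => ?_⟩
      haveI := hq.1
      haveI : P.LiesOver p := ⟨rfl⟩
      obtain ⟨Q, hQle, hQp, hQlo⟩ :=
        Ideal.exists_ideal_le_liesOver_of_le (S := AdicCompletion (maximalIdeal A) A) P hqle
      show P.under A ≤ q
      rw [le_antisymm (hP.2 ⟨hQp, bot_le⟩ hQle) hQle]
      exact hQlo.over.symm.le
    haveI : IsLocalRing (A ⧸ p) := IsLocalRing.of_surjective' _ Ideal.Quotient.mk_surjective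
    obtain ⟨e, -⟩ := CMCat.exists_complQuotEquiv p
    have h1 := CMCat.isEquidim_of_ringEquiv e.symm (h p hp)
    let K := p.map (algebraMap A (AdicCompletion (maximalIdeal A) A))
    have hKP : K ≤ P := Ideal.map_le_iff_le_comap.2 le_rfl
    have hq : P.map (Ideal.Quotient.mk K) ∈ (⊥ : Ideal (AdicCompletion (maximalIdeal A) A ⧸ K)).minimalPrimes := by
      rw [← Ideal.map_quotient_self K, Ideal.minimalPrimes_map_of_surjective Ideal.Quotient.mk_surjective]
      exact ⟨P, by rw [Ideal.mk_ker, sup_idem]; exact ⟨⟨hP.1.1, hKP⟩, fun Q hQ hQP => hP.2 ⟨hQ.1, bot_le⟩ hQP⟩, rfl⟩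
    have h2 := h1 _ hq
    rw [ringKrullDim_eq_of_ringEquiv (DoubleQuot.quotQuotEquivQuotOfLE hKP)] at h2
    rw [h2, ringKrullDim_eq_of_ringEquiv e,
      RegLocal.ringKrullDim_completion (A ⧸ p) _ (maximalIdeal.isMaximal _).ne_top, heq p hp,
      RegLocal.ringKrullDim_completion A _ (maximalIdeal.isMaximal A).ne_top]

theorem isEquidim_quotient_iff (h : EGA4.IsFormallyEquidim A) (a : Ideal A) [Nontrivial (A ⧸ a)]
    [IsLocalRing (A ⧸ a)] : EGA4.IsEquidim (A ⧸ a) ↔ EGA4.IsFormallyEquidim (A ⧸ a) := by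
  obtain ⟨_, _, _, _, hmax⟩ := compl_facts A
  have hcat := isCatenary_of_isUniversallyCatenary (isUniversallyCatenary_completion A)
  obtain ⟨e, -⟩ := CMCat.exists_complQuotEquiv a
  rw [← isEquidim_quotient_map_iff (A' := AdicCompletion (maximalIdeal A) A) h hcat closedFibre_completion a]
  exact ⟨fun hh => CMCat.isEquidim_of_ringEquiv e hh, fun hh => CMCat.isEquidim_of_ringEquiv e.symm hh⟩

end Completion

end Groth.Agent.RatliffLib
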