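import Mathlib
import Groth.Agent.RatliffLib.Formal
import Groth.Agent.ResExt.Flat

/-!
Ratliff: formally equidimensional Noetherian local rings are universally catenary.
-/

set_option autoImplicit false

universe u

open IsLocalRing Order

namespace Groth.Agent.RatliffLib

theorem isPrime_map_C {R : Type u} [CommRing R] {σ : Type} (P : Ideal R) [P.IsPrime] :
    (P.map (MvPolynomial.C : R →+* MvPolynomial σ R)).IsPrime := by
  haveI : IsDomain (MvPolynomial σ R ⧸ P.map (MvPolynomial.C : R →+* MvPolynomial σ R)) :=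
    (MvPolynomial.quotientEquivQuotientMvPolynomial (σ := σ) P).symm.toRingEquiv.toMulEquiv.isDomain
  exact (Ideal.Quotient.isDomain_iff_prime _).1 inferInstance

/-- Localizations of a polynomial ring over an equidimensional catenary local ring are equidimensional. -/
theorem isEquidim_localization_polynomial {A : Type u} [CommRing A] [IsLocalRing A] [IsNoetherianRing A]
    (heq : EGA4.IsEquidim A) (hcat : CAlg.IsCatenary A) (n : ℕ) (Q : Ideal (MvPolynomial (Fin n) A)) [Q.IsPrime] :
    EGA4.IsEquidim (Localization.AtPrime Q) := by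
  let B := MvPolynomial (Fin n) A
  let R := Localization.AtPrime Q
  let q : Ideal A := Q.under A
  obtain ⟨D, hD⟩ := ENat.ne_top_iff_exists.mp (height_ne_top' (closedPoint A))
  obtain ⟨a, ha⟩ := ENat.ne_top_iff_exists.mp (CatLib.coheight_ne_top (⟨q, inferInstance⟩ : PrimeSpectrum A))
  refine (isEquidim_of_forall (A := R)
    ((((D - a : ℕ) : ℕ∞) + (Q.map (Ideal.Quotient.mk (q.map (algebraMap A B)))).height : ℕ∞) : WithBot ℕ∞)
    fun r hr => ?_).1
  haveI := hr.1.1
  let Pt : Ideal B := r.under B
  haveI : Pt.IsPrime := inferInstance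
  have hPQ : Pt ≤ Q := by
    rw [← IsLocalization.AtPrime.under_maximalIdeal R Q]
    exact Ideal.comap_mono (le_maximalIdeal hr.1.1.ne_top)
  have hPtmin : Pt ∈ minimalPrimes B := by
    refine ⟨⟨inferInstance, bot_le⟩, fun T hT hTle => ?_⟩
    have hdisj : Disjoint (Q.primeCompl : Set B) T :=
      Set.disjoint_left.2 fun x hx hxT => hx (hPQ (hTle hxT))
    have h1 : (T.map (algebraMap B R)).IsPrime := IsLocalization.isPrime_of_isPrime_disjoint _ _ T hT.1 hdisj
    have h2 : T.map (algebraMap B R) ≤ r := Ideal.map_le_iff_le_comap.2 hTle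
    have h3 : r ≤ T.map (algebraMap B R) := hr.2 ⟨h1, bot_le⟩ h2
    intro x hx
    rw [← IsLocalization.under_map_of_isPrime_disjoint Q.primeCompl R hT.1 hdisj]
    exact h3 hx
  let P : Ideal A := Pt.under A
  have hPmap : Pt = P.map (algebraMap A B) := by
    refine le_antisymm ?_ (Ideal.map_le_iff_le_comap.2 le_rfl)
    haveI : (P.map (algebraMap A B)).IsPrime := isPrime_map_C P
    exact hPtmin.2 ⟨inferInstance, bot_le⟩ (Ideal.map_le_iff_le_comap.2 le_rfl)
  have hPmin : P ∈ minimalPrimes A := by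
    refine ⟨⟨inferInstance, bot_le⟩, fun T hT hTle => ?_⟩
    haveI := hT.1
    haveI : (T.map (algebraMap A B)).IsPrime := isPrime_map_C T
    intro x hx
    have h1 : Pt ≤ T.map (algebraMap A B) :=
      hPtmin.2 ⟨inferInstance, bot_le⟩ ((Ideal.map_mono hTle).trans (Ideal.map_le_iff_le_comap.2 le_rfl))
    have h2 : MvPolynomial.C x ∈ T.map (MvPolynomial.C : A →+* B) := h1 hx
    have := MvPolynomial.mem_map_C_iff.1 h2 0
    rwa [MvPolynomial.coeff_C, if_pos rfl] at this
  have hPq : P ≤ q := Ideal.comap_mono hPQ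
  -- `R/r` is the localization of `B/Pt` at `Q`
  let mkP := Ideal.Quotient.mk Pt
  haveI hQbar : (Q.map mkP).IsPrime :=
    Ideal.map_isPrime_of_surjective Ideal.Quotient.mk_surjective (by rwa [Ideal.mk_ker])
  have hsub : Algebra.algebraMapSubmonoid (B ⧸ Pt) Q.primeCompl = (Q.map mkP).primeCompl := by
    ext x
    constructor
    · rintro ⟨y, hy, rfl⟩ hmem
      rw [Ideal.Quotient.algebraMap_eq] at hmem
      exact hy (by
        have := (Ideal.mem_quotient_iff_mem_sup (I := Pt) (J := Q)).1 hmem
        rwa [sup_eq_left.2 hPQ] at this)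
    · intro hx
      obtain ⟨y, rfl⟩ := Ideal.Quotient.mk_surjective x
      exact ⟨y, fun hy => hx (Ideal.mem_map_of_mem _ hy), rfl⟩
  haveI : IsLocalization.AtPrime (R ⧸ Pt.map (algebraMap B R)) (Q.map mkP) := by
    show IsLocalization (Q.map mkP).primeCompl _
    rw [← hsub]
    infer_instance
  have hr' : Pt.map (algebraMap B R) = r := IsLocalization.map_under Q.primeCompl R r
  rw [← hr']
  refine (IsLocalization.AtPrime.ringKrullDim_eq_height (Q.map mkP) (R ⧸ Pt.map (algebraMap B R))).trans ?_
  congr 1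
  -- heights over `A/P`
  have hprime : (P.map (algebraMap A B)).IsPrime := hPmap ▸ inferInstance
  let e₀ : (B ⧸ Pt) ≃+* (B ⧸ P.map (algebraMap A B)) := Ideal.quotEquivOfEq hPmap
  rw [← e₀.height_map (Q.map mkP)]
  have hQ' : (Q.map mkP).map e₀ = Q.map (Ideal.Quotient.mk (P.map (algebraMap A B))) := by
    rw [← Ideal.map_coe e₀, Ideal.map_map]
    rfl
  rw [hQ']
  set K := P.map (algebraMap A B)
  have hKQ : K ≤ Q := hPmap ▸ hPQ
  haveI : (Q.map (Ideal.Quotient.mk K)).IsPrime :=
    Ideal.map_isPrime_of_surjective Ideal.Quotient.mk_surjective (by rwa [Ideal.mk_ker])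
  haveI : (q.map (Ideal.Quotient.mk P)).IsPrime :=
    Ideal.map_isPrime_of_surjective Ideal.Quotient.mk_surjective (by rwa [Ideal.mk_ker])
  haveI := flat_quot (B := B) P
  haveI : IsNoetherianRing B := MvPolynomial.isNoetherianRing
  haveI : (Q.map (Ideal.Quotient.mk K)).LiesOver (q.map (Ideal.Quotient.mk P)) := by
    refine ⟨Ideal.ext fun x => ?_⟩
    obtain ⟨y, rfl⟩ := Ideal.Quotient.mk_surjective x
    rw [Ideal.mem_quotient_iff_mem_sup, sup_eq_left.2 hPq, Ideal.mem_comap]
    show y ∈ q ↔ Ideal.Quotient.mk K (algebraMap A B y) ∈ Q.map (Ideal.Quotient.mk K)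
    rw [Ideal.mem_quotient_iff_mem_sup, sup_eq_left.2 hKQ]
    rfl
  rw [Ideal.height_eq_height_add_of_liesOver_of_hasGoingDown (q.map (Ideal.Quotient.mk P))
    (Q.map (Ideal.Quotient.mk K))]
  congr 1
  · -- height in the domain `A/P`
    haveI : IsLocalRing (A ⧸ P) := IsLocalRing.of_surjective' _ Ideal.Quotient.mk_surjective
    haveI : P.IsPrime := inferInstance
    have heqP : EGA4.IsEquidim (A ⧸ P) := fun s hs => by
      rw [IsDomain.minimalPrimes_eq_singleton_bot, Set.mem_singleton_iff] at hs
      rw [hs]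
      exact ringKrullDim_eq_of_ringEquiv (RingEquiv.quotientBot (A ⧸ P))
    have h1 := height_add_coheight heqP (CatLib.isCatenary_quotient P hcat) ⟨q.map (Ideal.Quotient.mk P), inferInstance⟩
    have h2 : coheight (⟨q.map (Ideal.Quotient.mk P), inferInstance⟩ : PrimeSpectrum (A ⧸ P)) = a := by
      rw [ha]
      apply WithBot.coe_injective
      rw [← CatLib.ringKrullDim_quotient_eq_coheight, ← CatLib.ringKrullDim_quotient_eq_coheight]
      exact ringKrullDim_eq_of_ringEquiv (DoubleQuot.quotQuotEquivQuotOfLE hPq)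
    have h3 : height (closedPoint (A ⧸ P)) = D := by
      rw [hD]
      apply WithBot.coe_injective
      rw [← dim_eq_height_closedPoint, ← dim_eq_height_closedPoint]
      exact heq P hPmin
    rw [h2, h3, ← PrimeSpectrum.height_eq_orderHeight] at h1
    obtain ⟨t, ht⟩ := ENat.ne_top_iff_exists.mp (Ideal.height_ne_top (I := q.map (Ideal.Quotient.mk P))
      (Ideal.IsPrime.ne_top inferInstance))
    rw [show (⟨q.map (Ideal.Quotient.mk P), inferInstance⟩ : PrimeSpectrum (A ⧸ P)).asIdeal =
      q.map (Ideal.Quotient.mk P) from rfl, ← ht] at h1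
    have h4 : t + a = D := by exact_mod_cast h1
    rw [← ht, show D - a = t by omega]
  · -- the fibre over `q`
    have hmap : (q.map (Ideal.Quotient.mk P)).map (algebraMap (A ⧸ P) (B ⧸ K)) =
        (q.map (algebraMap A B)).map (Ideal.Quotient.mk K) := by
      rw [Ideal.map_map, Ideal.map_map]
      rfl
    let e := (Ideal.quotEquivOfEq hmap).trans
      (DoubleQuot.quotQuotEquivQuotOfLE (Ideal.map_mono hPq : K ≤ q.map (algebraMap A B)))
    rw [← e.height_map, ← Ideal.map_coe e, Ideal.map_map, Ideal.map_map]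
    congr 1

theorem isCatenary_of_forall_atPrime {R : Type u} [CommRing R] [IsNoetherianRing R]
    (h : ∀ (q : Ideal R) [q.IsPrime], CAlg.IsCatenary (Localization.AtPrime q)) : CAlg.IsCatenary R := by
  have hlift : ∀ (q : PrimeSpectrum R),
      ∃ Φ : PrimeSpectrum (Localization.AtPrime q.asIdeal) ↪o PrimeSpectrum R,
        Set.range Φ = Set.Iic q := by
    intro q
    refine ⟨OrderEmbedding.ofMapLEIff
      (fun p => PrimeSpectrum.comap (algebraMap R (Localization.AtPrime q.asIdeal)) p) fun p p' =>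
      ⟨fun hle => ?_, fun hle => Ideal.comap_mono hle⟩, Set.ext fun p => ⟨?_, fun hp => ?_⟩⟩
    · show p.asIdeal ≤ p'.asIdeal
      rw [← IsLocalization.map_under q.asIdeal.primeCompl (Localization.AtPrime q.asIdeal) p.asIdeal,
        ← IsLocalization.map_under q.asIdeal.primeCompl (Localization.AtPrime q.asIdeal) p'.asIdeal]
      exact Ideal.map_mono hle
    · rintro ⟨x, rfl⟩
      show x.asIdeal.comap (algebraMap R _) ≤ q.asIdeal
      exact (Ideal.comap_mono (le_maximalIdeal x.isPrime.ne_top)).trans_eq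
        (IsLocalization.AtPrime.under_maximalIdeal (Localization.AtPrime q.asIdeal) q.asIdeal)
    · have hdisj : Disjoint (q.asIdeal.primeCompl : Set R) p.asIdeal :=
        Set.disjoint_left.2 fun x hx hxp => hx (hp hxp)
      exact ⟨⟨p.asIdeal.map (algebraMap R _), IsLocalization.isPrime_of_isPrime_disjoint _ _ _ p.isPrime hdisj⟩,
        PrimeSpectrum.ext (IsLocalization.under_map_of_isPrime_disjoint q.asIdeal.primeCompl _ p.isPrime hdisj)⟩
  refine ⟨fun p q hpq => ?_, fun s t hh hl hs ht => ?_⟩
  · obtain ⟨n, hn⟩ := ENat.ne_top_iff_exists.mp (height_ne_top' q)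
    refine ⟨n, fun s _ hs => ?_⟩
    have h1 : (s.length : ℕ∞) ≤ height q := hs ▸ length_le_height_last
    rw [← hn] at h1
    exact_mod_cast h1
  · obtain ⟨Φ, hΦ⟩ := hlift s.last
    have hord : (Set.range Φ).OrdConnected := hΦ ▸ Set.ordConnected_Iic
    have hpre : ∀ (u : LTSeries (PrimeSpectrum R)), u.last = s.last →
        (∀ i : Fin u.length, u (Fin.castSucc i) ⋖ u (Fin.succ i)) →
        ∃ v : LTSeries (PrimeSpectrum (Localization.AtPrime s.last.asIdeal)), v.length = u.length ∧
          Φ v.head = u.head ∧ Φ v.last = u.last ∧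
          ∀ i : Fin v.length, v (Fin.castSucc i) ⋖ v (Fin.succ i) := by
      intro u hu hcov
      have hmem : ∀ i, ∃ x, Φ x = u i := fun i => by
        have : u i ∈ Set.range Φ := by
          rw [hΦ, ← hu]
          exact u.monotone (Fin.le_last i)
        exact this
      choose g hg using hmem
      have hg' : ∀ i : Fin u.length, g (Fin.castSucc i) ⋖ g (Fin.succ i) := fun i => by
        rw [← hord.apply_covBy_apply_iff, hg, hg]
        exact hcov i
      exact ⟨⟨u.length, g, fun i => (hg' i).lt⟩, rfl, hg _, hg _, hg'⟩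
    obtain ⟨s', hs1, hs2, hs3, hs4⟩ := hpre s rfl hs
    obtain ⟨t', ht1, ht2, ht3, ht4⟩ := hpre t hl.symm ht
    rw [← hs1, ← ht1]
    exact (h s.last.asIdeal).2 s' t' (Φ.injective (by rw [hs2, ht2, hh])) (Φ.injective (by rw [hs3, ht3, hl]))
      hs4 ht4

/-- Flat descent: `A` is universally catenary if `A'` is equidimensional universally catenary. -/
theorem isUniversallyCatenary_of_flat {A A' : Type u} [CommRing A] [CommRing A'] [IsLocalRing A] [IsLocalRing A']
    [Algebra A A'] [IsLocalHom (algebraMap A A')] [IsNoetherianRing A] [IsNoetherianRing A'] [Module.Flat A A']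
    (heq : EGA4.IsEquidim A') (huc : CAlg.IsUniversallyCatenary A') : CAlg.IsUniversallyCatenary A := by
  haveI : Module.FaithfullyFlat A A' := Module.FaithfullyFlat.of_flat_of_isLocalHom
  refine ⟨inferInstance, fun S _ _ hS => ?_⟩
  obtain ⟨n, φ, hφ⟩ := Algebra.FiniteType.iff_quotient_mvPolynomial''.1 hS
  let B₀ := MvPolynomial (Fin n) A
  let B := MvPolynomial (Fin n) A'
  letI : Algebra B₀ B := MvPolynomial.algebraMvPolynomial
  haveI : Module.FaithfullyFlat B₀ B :=
    Module.FaithfullyFlat.of_linearEquiv B₀ (TensorProduct A B₀ A')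
      ((Algebra.IsPushout.equiv A B₀ A' B).toLinearEquiv.symm)
  have hcat : CAlg.IsCatenary B₀ := by
    refine isCatenary_of_forall_atPrime fun Q _ => ?_
    obtain ⟨⟨Q', hQ'⟩, hQQ⟩ := PrimeSpectrum.comap_surjective_of_faithfullyFlat (A := B₀) (B := B) ⟨Q, ‹_›⟩
    have hQQ' : Q'.under B₀ = Q := congrArg PrimeSpectrum.asIdeal hQQ
    letI : Algebra (Localization.AtPrime Q) (Localization.AtPrime Q') :=
      (Localization.localRingHom Q Q' (algebraMap B₀ B) hQQ'.symm).toAlgebra
    haveI : IsScalarTower B₀ (Localization.AtPrime Q) (Localization.AtPrime Q') :=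
      IsScalarTower.of_algebraMap_eq fun y => by
        rw [RingHom.algebraMap_toAlgebra, Localization.localRingHom_to_map, ← IsScalarTower.algebraMap_apply B₀ B]
    haveI : Module.Flat B₀ (Localization.AtPrime Q') := Module.Flat.trans B₀ B _
    haveI : Module.Flat (Localization.AtPrime Q) (Localization.AtPrime Q') :=
      (Module.flat_iff_of_isLocalization (Localization.AtPrime Q) Q.primeCompl _).2 inferInstance
    haveI : IsLocalHom (algebraMap (Localization.AtPrime Q) (Localization.AtPrime Q')) :=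
      Localization.isLocalHom_localRingHom Q Q' (algebraMap B₀ B) hQQ'.symm
    exact (isEquidim_and_isCatenary_of_flat (A' := Localization.AtPrime Q')
      (isEquidim_localization_polynomial heq (isCatenary_of_isUniversallyCatenary huc) n Q')
      (CatLib.isCatenary_of_isLocalization Q'.primeCompl (huc.2 B inferInstance))).2
  exact isCatenary_of_ringEquiv (RingHom.quotientKerEquivOfSurjective (f := φ.toRingHom) hφ)
    (CatLib.isCatenary_quotient _ hcat)

theorem isUniversallyCatenary_of_formallyEquidim {A : Type u} [CommRing A] [IsLocalRing A] [IsNoetherianRing A]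
    (h : EGA4.IsFormallyEquidim A) : CAlg.IsUniversallyCatenary A := by
  obtain ⟨_, _, _, _, _⟩ := compl_facts A
  exact isUniversallyCatenary_of_flat (A' := AdicCompletion (maximalIdeal A) A) h
    (isUniversallyCatenary_completion A)

/-- Formally catenary local rings are universally catenary. -/
theorem isUniversallyCatenary_of_formallyCatenary {A : Type u} [CommRing A] [IsLocalRing A] [IsNoetherianRing A]
    (h : EGA4.IsFormallyCatenary A) : CAlg.IsUniversallyCatenary A := by
  refine ⟨inferInstance, fun S _ _ hS => ?_⟩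
  haveI : IsNoetherianRing S := Algebra.FiniteType.isNoetherianRing A S
  -- chains live over a prime quotient
  have key : ∀ (P : PrimeSpectrum S), CAlg.IsCatenary (S ⧸ P.asIdeal) := by
    intro P
    let p : Ideal A := P.asIdeal.under A
    haveI : IsLocalRing (A ⧸ p) := IsLocalRing.of_surjective' _ Ideal.Quotient.mk_surjective
    have hu := isUniversallyCatenary_of_formallyEquidim (h p)
    haveI : Algebra.FiniteType (A ⧸ p) (S ⧸ P.asIdeal) :=
      Algebra.FiniteType.of_restrictScalars_finiteType A (A ⧸ p) (S ⧸ P.asIdeal)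
    exact hu.2 (S ⧸ P.asIdeal) inferInstance
  have hemb : ∀ (P : PrimeSpectrum S), ∃ Φ : PrimeSpectrum (S ⧸ P.asIdeal) ↪o PrimeSpectrum S,
      Set.range Φ = Set.Ici P := by
    intro P
    refine ⟨OrderEmbedding.ofMapLEIff (fun q => PrimeSpectrum.comap (Ideal.Quotient.mk P.asIdeal) q)
      fun p q => Ideal.comap_le_comap_iff_of_surjective _ Ideal.Quotient.mk_surjective _ _,
      Set.ext fun x => ⟨?_, fun hx => ?_⟩⟩
    · rintro ⟨y, rfl⟩ a ha
      show Ideal.Quotient.mk P.asIdeal a ∈ y.asIdeal
      rw [Ideal.Quotient.eq_zero_iff_mem.2 ha]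
      exact zero_mem _
    · haveI : (x.asIdeal.map (Ideal.Quotient.mk P.asIdeal)).IsPrime :=
        Ideal.map_isPrime_of_surjective Ideal.Quotient.mk_surjective (by rw [Ideal.mk_ker]; exact hx)
      refine ⟨⟨x.asIdeal.map (Ideal.Quotient.mk P.asIdeal), inferInstance⟩, PrimeSpectrum.ext ?_⟩
      show (x.asIdeal.map (Ideal.Quotient.mk P.asIdeal)).comap (Ideal.Quotient.mk P.asIdeal) = x.asIdeal
      rw [Ideal.comap_map_of_surjective _ Ideal.Quotient.mk_surjective, ← RingHom.ker_eq_comap_bot,
        Ideal.mk_ker, sup_eq_left.mpr (show P.asIdeal ≤ x.asIdeal from hx)]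
  refine ⟨fun p q hpq => ?_, fun s t hh hl hs ht => ?_⟩
  · obtain ⟨n, hn⟩ := ENat.ne_top_iff_exists.mp (height_ne_top' q)
    refine ⟨n, fun s _ hs => ?_⟩
    have h1 : (s.length : ℕ∞) ≤ height q := hs ▸ length_le_height_last
    rw [← hn] at h1
    exact_mod_cast h1
  · obtain ⟨Φ, hΦ⟩ := hemb s.head
    have hord : (Set.range Φ).OrdConnected := hΦ ▸ Set.ordConnected_Ici
    have hpre : ∀ (u : LTSeries (PrimeSpectrum S)), u.head = s.head →
        (∀ i : Fin u.length, u (Fin.castSucc i) ⋖ u (Fin.succ i)) →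
        ∃ v : LTSeries (PrimeSpectrum (S ⧸ s.head.asIdeal)), v.length = u.length ∧
          Φ v.head = u.head ∧ Φ v.last = u.last ∧
          ∀ i : Fin v.length, v (Fin.castSucc i) ⋖ v (Fin.succ i) := by
      intro u hu hcov
      have hmem : ∀ i, ∃ x, Φ x = u i := fun i => by
        have : u i ∈ Set.range Φ := by
          rw [hΦ, ← hu]
          exact u.monotone (Fin.zero_le i)
        exact this
      choose g hg using hmem
      have hg' : ∀ i : Fin u.length, g (Fin.castSucc i) ⋖ g (Fin.succ i) := fun i => by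
        rw [← hord.apply_covBy_apply_iff, hg, hg]
        exact hcov i
      exact ⟨⟨u.length, g, fun i => (hg' i).lt⟩, rfl, hg _, hg _, hg'⟩
    obtain ⟨s', hs1, hs2, hs3, hs4⟩ := hpre s rfl hs
    obtain ⟨t', ht1, ht2, ht3, ht4⟩ := hpre t hh.symm ht
    rw [← hs1, ← ht1]
    exact (key s.head).2 s' t' (Φ.injective (by rw [hs2, ht2, hh])) (Φ.injective (by rw [hs3, ht3, hl]))
      hs4 ht4

end Groth.Agent.RatliffLib
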