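import Mathlib
import Groth.Agent.RatliffLib.UnivCat
import Groth.Agent.ResExt.Flat

/-!
Formal equidimensionality descends along flat local homomorphisms and passes to essentially finite type algebras.
-/

set_option autoImplicit false

universe u

open IsLocalRing TensorProduct

namespace Groth.Agent.RatliffLib

/-- An algebra over the completion which is flat over the ring is flat over the completion. -/
theorem flat_over_completion {R C : Type u} [CommRing R] [IsLocalRing R] [IsNoetherianRing R]
    [CommRing C] [IsNoetherianRing C] [Algebra R C] [Module.Flat R C]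
    [Algebra (AdicCompletion (maximalIdeal R) R) C] [IsScalarTower R (AdicCompletion (maximalIdeal R) R) C]
    (hjac : (maximalIdeal R).map (algebraMap R C) ≤ Ideal.jacobson ⊥) :
    Module.Flat (AdicCompletion (maximalIdeal R) R) C := by
  obtain ⟨_, hnoe, _, _, hmax⟩ := compl_facts R
  haveI := hnoe
  let Rh := AdicCompletion (maximalIdeal R) R
  let φ : Rh ⊗[R] C →ₐ[Rh] C :=
    Algebra.TensorProduct.lift (Algebra.ofId Rh C) (AlgHom.id R C) fun x y => Commute.all _ _
  have hφ : ∀ (a : Rh) (c : C), φ (a ⊗ₜ c) = algebraMap Rh C a * c := fun a c =>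
    Algebra.TensorProduct.lift_tmul (Algebra.ofId Rh C) (AlgHom.id R C) (fun x y => Commute.all _ _) a c
  have hm : (maximalIdeal Rh).map (algebraMap Rh C) = (maximalIdeal R).map (algebraMap R C) := by
    rw [hmax, Ideal.map_map, ← IsScalarTower.algebraMap_eq]
  refine ResExt.flat_of_forall_quotient (R := Rh ⊗[R] C) (maximalIdeal Rh) (hm ▸ hjac) φ
    (fun n c => ⟨1 ⊗ₜ c, by rw [hφ, map_one, one_mul, sub_self]; exact zero_mem _⟩) fun n x hx => ?_
  -- every element is congruent to some `1 ⊗ c`
  have key : ∀ x : Rh ⊗[R] C, ∃ c : C,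
      x - 1 ⊗ₜ c ∈ ((maximalIdeal Rh).map (algebraMap Rh (Rh ⊗[R] C))) ^ n := by
    intro x
    induction x using TensorProduct.induction_on with
    | zero => exact ⟨0, by simp⟩
    | tmul a c =>
      obtain ⟨r, hr⟩ : ∃ r : R, a - algebraMap R Rh r ∈ maximalIdeal Rh ^ n := by
        obtain ⟨r, hr⟩ := Ideal.Quotient.mk_surjective (AdicCompletion.evalₐ (maximalIdeal R) n a)
        refine ⟨r, ?_⟩
        rw [hmax, ← Ideal.map_pow, ← CMCat.evalₐ_eq_zero_iff (maximalIdeal R).fg_of_isNoetherianRing, map_sub,
          AlgHom.commutes, ← hr, Ideal.Quotient.algebraMap_eq, sub_self]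
      refine ⟨r • c, ?_⟩
      have h1 : a ⊗ₜ[R] c - 1 ⊗ₜ (r • c) = algebraMap Rh (Rh ⊗[R] C) (a - algebraMap R Rh r) * (1 ⊗ₜ c) := by
        rw [Algebra.TensorProduct.algebraMap_apply, Algebra.algebraMap_self, RingHom.id_apply,
          Algebra.TensorProduct.tmul_mul_tmul, mul_one, one_mul, TensorProduct.sub_tmul,
          Algebra.algebraMap_eq_smul_one, TensorProduct.smul_tmul]
      rw [h1, ← Ideal.map_pow]
      exact Ideal.mul_mem_right _ _ (Ideal.mem_map_of_mem _ hr)
    | add x y hx hy =>
      obtain ⟨c, hc⟩ := hx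
      obtain ⟨d, hd⟩ := hy
      refine ⟨c + d, ?_⟩
      rw [TensorProduct.tmul_add, add_sub_add_comm]
      exact add_mem hc hd
  obtain ⟨c, hc⟩ := key x
  have h2 : c ∈ ((maximalIdeal Rh).map (algebraMap Rh C)) ^ n := by
    have h3 := Ideal.mem_map_of_mem φ hc
    rw [map_sub, hφ, map_one, one_mul, Ideal.map_pow] at h3
    have h4 : ((maximalIdeal Rh).map (algebraMap Rh (Rh ⊗[R] C))).map φ = (maximalIdeal Rh).map (algebraMap Rh C) := by
      rw [← Ideal.map_coe φ, Ideal.map_map]
      congr 1
      exact RingHom.ext fun a => φ.commutes a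
    rw [h4] at h3
    have h5 := sub_mem hx h3
    rwa [sub_sub_cancel] at h5
  have h6 : (1 : Rh) ⊗ₜ[R] c ∈ ((maximalIdeal Rh).map (algebraMap Rh (Rh ⊗[R] C))) ^ n := by
    rw [hm, ← Ideal.map_pow] at h2
    have h7 := Ideal.mem_map_of_mem
      (Algebra.TensorProduct.includeRight : C →ₐ[R] Rh ⊗[R] C).toRingHom h2
    rw [Ideal.map_map, show (Algebra.TensorProduct.includeRight : C →ₐ[R] Rh ⊗[R] C).toRingHom.comp (algebraMap R C) =
        algebraMap R (Rh ⊗[R] C) from RingHom.ext fun r =>
        (Algebra.TensorProduct.includeRight : C →ₐ[R] Rh ⊗[R] C).commutes r,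
      IsScalarTower.algebraMap_eq R Rh (Rh ⊗[R] C), ← Ideal.map_map,
      Ideal.map_pow, Ideal.map_pow, ← hmax] at h7
    exact h7
  rw [← sub_add_cancel x ((1 : Rh) ⊗ₜ[R] c)]
  exact add_mem hc h6

/-- Formal equidimensionality descends along flat local homomorphisms. -/
theorem isFormallyEquidim_of_flat {R R' : Type u} [CommRing R] [CommRing R'] [IsLocalRing R] [IsLocalRing R']
    [Algebra R R'] [IsLocalHom (algebraMap R R')] [IsNoetherianRing R] [IsNoetherianRing R'] [Module.Flat R R']
    (h : EGA4.IsFormallyEquidim R') : EGA4.IsFormallyEquidim R := by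
  obtain ⟨_, _, _, _, hmax⟩ := compl_facts R
  obtain ⟨_, _, _, _, hmax'⟩ := compl_facts R'
  let Rh := AdicCompletion (maximalIdeal R) R
  let C := AdicCompletion (maximalIdeal R') R'
  have hle : (maximalIdeal R).map (algebraMap R R') ≤ maximalIdeal R' :=
    ((local_hom_TFAE (algebraMap R R')).out 0 2 rfl rfl).mp inferInstance
  letI : Algebra Rh C := (CMCat.complHom (algebraMap R R') (maximalIdeal R) (maximalIdeal R') hle).toAlgebra
  haveI : IsScalarTower R Rh C := IsScalarTower.of_algebraMap_eq fun r => by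
    rw [RingHom.algebraMap_toAlgebra, CMCat.complHom_algebraMap, ← IsScalarTower.algebraMap_apply R R' C]
  haveI : Module.Flat R' C := inferInstance
  haveI : Module.Flat R C := Module.Flat.trans R R' C
  have hmC : (maximalIdeal R).map (algebraMap R C) ≤ maximalIdeal C := by
    rw [IsScalarTower.algebraMap_eq R R' C, ← Ideal.map_map, hmax']
    exact Ideal.map_mono hle
  haveI : Module.Flat Rh C := flat_over_completion (by rwa [IsLocalRing.jacobson_eq_maximalIdeal ⊥ bot_ne_top])
  haveI : IsLocalHom (algebraMap Rh C) := by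
    refine ((local_hom_TFAE _).out 0 2).mpr ?_
    rw [hmax, Ideal.map_map, ← IsScalarTower.algebraMap_eq]
    exact hmC
  exact (isEquidim_and_isCatenary_of_flat (A := Rh) (A' := C) h
    (isCatenary_of_isUniversallyCatenary (isUniversallyCatenary_completion R'))).1

theorem isFormallyEquidim_quotient_of_flat {R R' : Type u} [CommRing R] [CommRing R'] [IsLocalRing R] [IsLocalRing R']
    [Algebra R R'] [IsLocalHom (algebraMap R R')] [IsNoetherianRing R] [IsNoetherianRing R'] [Module.Flat R R']
    (K : Ideal R) [IsLocalRing (R ⧸ K)] [IsLocalRing (R' ⧸ K.map (algebraMap R R'))]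
    (h : EGA4.IsFormallyEquidim (R' ⧸ K.map (algebraMap R R'))) : EGA4.IsFormallyEquidim (R ⧸ K) := by
  haveI := flat_quot (B := R') K
  haveI : IsLocalHom (Ideal.Quotient.mk (K.map (algebraMap R R'))) := Ideal.Quotient.mk_surjective.isLocalHom _
  haveI : IsLocalHom (algebraMap (R ⧸ K) (R' ⧸ K.map (algebraMap R R'))) := by
    refine ⟨fun x hx => ?_⟩
    obtain ⟨a', rfl⟩ := Ideal.Quotient.mk_surjective x
    have h1 : IsUnit (Ideal.Quotient.mk (K.map (algebraMap R R')) (algebraMap R R' a')) := hx
    exact (isUnit_of_map_unit (algebraMap R R') a' (isUnit_of_map_unit _ _ h1)).map _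
  exact isFormallyEquidim_of_flat (R := R ⧸ K) (R' := R' ⧸ K.map (algebraMap R R')) h

theorem isFormallyCatenary_of_surjective {A B : Type u} [CommRing A] [LocCoh.IsCohenMacaulayLocalRing A]
    [CommRing B] [IsLocalRing B] (f : A →+* B) (hf : Function.Surjective f) : EGA4.IsFormallyCatenary B := by
  letI : Algebra A B := f.toAlgebra
  exact CMCat.isFormallyCatenary_of_quotient (A := A) (B := B) hf

theorem isFormallyEquidim_of_formallyCatenary {B : Type u} [CommRing B] [IsLocalRing B] [IsNoetherianRing B]
    (h : EGA4.IsFormallyCatenary B) (heq : EGA4.IsEquidim B) : EGA4.IsFormallyEquidim B :=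
  isFormallyEquidim_iff.2 ⟨heq, fun p _ _ => h p⟩

theorem ringKrullDim_eq_zero_of_minimal {B : Type u} [CommRing B] (I : Ideal B) (Q : Ideal B) [Q.IsPrime]
    (hQ : Q ∈ I.minimalPrimes) :
    ringKrullDim (Localization.AtPrime Q ⧸ I.map (algebraMap B (Localization.AtPrime Q))) = 0 := by
  rw [ringKrullDim_quotient]
  haveI : Unique (PrimeSpectrum.zeroLocus (R := Localization.AtPrime Q)
      ↑(I.map (algebraMap B (Localization.AtPrime Q)))) :=
    { default := ⟨closedPoint _, by
        rw [PrimeSpectrum.mem_zeroLocus, SetLike.coe_subset_coe]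
        refine (Ideal.map_mono hQ.1.2).trans ?_
        rw [Localization.AtPrime.map_eq_maximalIdeal]
        exact le_rfl⟩
      uniq := by
        rintro ⟨T, hT⟩
        rw [PrimeSpectrum.mem_zeroLocus, SetLike.coe_subset_coe] at hT
        refine Subtype.ext (PrimeSpectrum.ext ?_)
        show T.asIdeal = maximalIdeal _
        refine le_antisymm (le_maximalIdeal T.isPrime.ne_top) ?_
        rw [← Localization.AtPrime.map_eq_maximalIdeal, Ideal.map_le_iff_le_comap]
        exact hQ.2 ⟨inferInstance, Ideal.map_le_iff_le_comap.1 hT⟩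
          ((Ideal.comap_mono (le_maximalIdeal T.isPrime.ne_top)).trans_eq
            (IsLocalization.AtPrime.under_maximalIdeal (Localization.AtPrime Q) Q)) }
  exact Order.krullDim_eq_zero_of_unique

/-- Localizations of polynomial rings over complete local rings are quotients of CM local rings. -/
theorem isFormallyCatenary_localization_polynomial {A : Type u} [CommRing A] [IsLocalRing A] [IsNoetherianRing A]
    [IsAdicComplete (maximalIdeal A) A] (n : ℕ) (Q : Ideal (MvPolynomial (Fin n) A)) [Q.IsPrime]
    (J : Ideal (Localization.AtPrime Q)) [IsLocalRing (Localization.AtPrime Q ⧸ J)] :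
    EGA4.IsFormallyCatenary (Localization.AtPrime Q ⧸ J) := by
  obtain ⟨S, _, _, f, hf⟩ := exists_regular_surjective A
  haveI := cm_of_regularLocal S
  haveI := CMCat.isCohenMacaulayRing_of_local (R := S)
  haveI := CMCat.isCohenMacaulayRing_mvPolynomial (R := S) n
  let F : MvPolynomial (Fin n) S →+* MvPolynomial (Fin n) A := MvPolynomial.map f
  have hF : Function.Surjective F := MvPolynomial.map_surjective f hf
  let Q₀ : Ideal (MvPolynomial (Fin n) S) := Q.comap F
  haveI : LocCoh.IsCohenMacaulayLocalRing (Localization.AtPrime Q₀) :=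
    LocCoh.IsCohenMacaulayRing.isCohenMacaulayLocalRing_localization Q₀
  have hsurj : Function.Surjective (Localization.localRingHom Q₀ Q F rfl) := by
    intro z
    obtain ⟨x, s, rfl⟩ := IsLocalization.exists_mk'_eq Q.primeCompl z
    obtain ⟨x', rfl⟩ := hF x
    obtain ⟨s', hs'⟩ := hF s.1
    have hs0 : s' ∈ Q₀.primeCompl := fun hmem => s.2 (hs' ▸ (hmem : F s' ∈ Q))
    refine ⟨IsLocalization.mk' _ x' ⟨s', hs0⟩, ?_⟩
    rw [Localization.localRingHom_mk']
    exact congrArg (IsLocalization.mk' _ (F x')) (Subtype.ext hs')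
  exact isFormallyCatenary_of_surjective
    ((Ideal.Quotient.mk J).comp (Localization.localRingHom Q₀ Q F rfl)) (Ideal.Quotient.mk_surjective.comp hsurj)

/-- Prime quotients of localized polynomial rings over a formally equidimensional local ring. -/
theorem isFormallyEquidim_localization_quotient {A : Type u} [CommRing A] [IsLocalRing A] [IsNoetherianRing A]
    (hA : EGA4.IsFormallyEquidim A) (n : ℕ) (Q : Ideal (MvPolynomial (Fin n) A)) [Q.IsPrime]
    (K : Ideal (Localization.AtPrime Q)) [K.IsPrime] [IsLocalRing (Localization.AtPrime Q ⧸ K)] :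
    EGA4.IsFormallyEquidim (Localization.AtPrime Q ⧸ K) := by
  obtain ⟨_, _, _, _, _⟩ := compl_facts A
  haveI : Module.FaithfullyFlat A (AdicCompletion (maximalIdeal A) A) :=
    Module.FaithfullyFlat.of_flat_of_isLocalHom
  let A' := AdicCompletion (maximalIdeal A) A
  let B₀ := MvPolynomial (Fin n) A
  let B := MvPolynomial (Fin n) A'
  letI : Algebra B₀ B := MvPolynomial.algebraMvPolynomial
  haveI : Module.FaithfullyFlat B₀ B :=
    Module.FaithfullyFlat.of_linearEquiv B₀ (TensorProduct A B₀ A')
      ((Algebra.IsPushout.equiv A B₀ A' B).toLinearEquiv.symm)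
  -- a prime minimal in the fibre over `Q`
  obtain ⟨⟨T, hT⟩, hTQ⟩ := PrimeSpectrum.comap_surjective_of_faithfullyFlat (A := B₀) (B := B) ⟨Q, ‹_›⟩
  have hTQ' : T.under B₀ = Q := congrArg PrimeSpectrum.asIdeal hTQ
  obtain ⟨Q', hQ', hQT⟩ := Ideal.exists_minimalPrimes_le (I := Q.map (algebraMap B₀ B)) (J := T)
    (Ideal.map_le_iff_le_comap.2 hTQ'.ge)
  haveI := hQ'.1.1
  have hQQ' : Q'.under B₀ = Q :=
    le_antisymm ((Ideal.comap_mono hQT).trans hTQ'.le) (Ideal.map_le_iff_le_comap.1 hQ'.1.2)
  let R := Localization.AtPrime Q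
  let R' := Localization.AtPrime Q'
  letI : Algebra R R' := (Localization.localRingHom Q Q' (algebraMap B₀ B) hQQ'.symm).toAlgebra
  haveI : IsScalarTower B₀ R R' := IsScalarTower.of_algebraMap_eq fun y => by
    rw [RingHom.algebraMap_toAlgebra, Localization.localRingHom_to_map, ← IsScalarTower.algebraMap_apply B₀ B]
  haveI : Module.Flat B₀ R' := Module.Flat.trans B₀ B _
  haveI : Module.Flat R R' := (Module.flat_iff_of_isLocalization R Q.primeCompl _).2 inferInstance
  haveI : IsLocalHom (algebraMap R R') :=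
    Localization.isLocalHom_localRingHom Q Q' (algebraMap B₀ B) hQQ'.symm
  have heq' : EGA4.IsEquidim R' := isEquidim_localization_polynomial hA
    (isCatenary_of_isUniversallyCatenary (isUniversallyCatenary_completion A)) n Q'
  have hcat' : CAlg.IsCatenary R' := CatLib.isCatenary_of_isLocalization Q'.primeCompl
    ((isUniversallyCatenary_completion A).2 B inferInstance)
  have h0 : ringKrullDim (R' ⧸ (maximalIdeal R).map (algebraMap R R')) = 0 := by
    rw [show (maximalIdeal R).map (algebraMap R R') = (Q.map (algebraMap B₀ B)).map (algebraMap B R') by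
      rw [← Localization.AtPrime.map_eq_maximalIdeal, Ideal.map_map, Ideal.map_map, ← IsScalarTower.algebraMap_eq,
        ← IsScalarTower.algebraMap_eq]]
    exact ringKrullDim_eq_zero_of_minimal _ Q' hQ'
  have hdom : EGA4.IsEquidim (R ⧸ K) := fun s hs => by
    rw [IsDomain.minimalPrimes_eq_singleton_bot, Set.mem_singleton_iff] at hs
    rw [hs]
    exact ringKrullDim_eq_of_ringEquiv (RingEquiv.quotientBot _)
  set J := K.map (algebraMap R R')
  haveI : Nontrivial (R' ⧸ J) := Ideal.Quotient.nontrivial_iff.2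
    fun h => (maximalIdeal.isMaximal R').ne_top (top_le_iff.1 (h ▸ map_le_maximal _ (Ideal.IsPrime.ne_top ‹_›)))
  haveI : IsLocalRing (R' ⧸ J) := IsLocalRing.of_surjective' _ Ideal.Quotient.mk_surjective
  have hJ : EGA4.IsFormallyEquidim (R' ⧸ J) := isFormallyEquidim_of_formallyCatenary
    (isFormallyCatenary_localization_polynomial n Q' J)
    ((isEquidim_quotient_map_iff heq' hcat' h0 K).2 hdom)
  exact isFormallyEquidim_quotient_of_flat (R := R) (R' := R') K hJ

/-- A local domain essentially of finite type over a formally equidimensional local ring is formally equidimensional. -/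
theorem isFormallyEquidim_of_essFiniteType_domain {A B : Type u} [CommRing A] [IsLocalRing A] [IsNoetherianRing A]
    (hA : EGA4.IsFormallyEquidim A) [CommRing B] [IsLocalRing B] [IsDomain B] [Algebra A B]
    [Algebra.EssFiniteType A B] : EGA4.IsFormallyEquidim B := by
  let S := Algebra.EssFiniteType.subalgebra A B
  obtain ⟨n, φ, hφ⟩ := Algebra.FiniteType.iff_quotient_mvPolynomial''.1 (inferInstance : Algebra.FiniteType A S)
  let g : MvPolynomial (Fin n) A →+* B := (algebraMap S B).comp φ.toRingHom
  let Q : Ideal (MvPolynomial (Fin n) A) := (maximalIdeal B).comap g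
  have hu : ∀ y : Q.primeCompl, IsUnit (g y) := fun y => IsLocalRing.notMem_maximalIdeal.1 y.2
  let ψ : Localization.AtPrime Q →+* B := IsLocalization.lift hu
  have hψ : Function.Surjective ψ := by
    intro b
    obtain ⟨⟨x, t⟩, hxt⟩ := IsLocalization.surj (Algebra.EssFiniteType.submonoid A B) b
    obtain ⟨x', hx'⟩ := hφ x
    obtain ⟨t', ht'⟩ := hφ t.1
    have ht : IsUnit (algebraMap S B t.1) := t.2
    have hgt : g t' = algebraMap S B t.1 := congrArg (algebraMap S B) ht'
    have htQ : t' ∈ Q.primeCompl := fun hmem => by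
      have hmem' : g t' ∈ maximalIdeal B := hmem
      rw [hgt] at hmem'
      exact (IsLocalRing.mem_maximalIdeal _).1 hmem' ht
    refine ⟨IsLocalization.mk' _ x' ⟨t', htQ⟩, ?_⟩
    rw [IsLocalization.lift_mk'_spec]
    show algebraMap S B (φ x') = g t' * b
    rw [hgt, hx', ← hxt, mul_comm]
  haveI : (RingHom.ker ψ).IsPrime := RingHom.ker_isPrime ψ
  haveI : IsLocalRing (Localization.AtPrime Q ⧸ RingHom.ker ψ) :=
    IsLocalRing.of_surjective' _ Ideal.Quotient.mk_surjective
  exact CMCat.isFormallyEquidim_of_ringEquiv (RingHom.quotientKerEquivOfSurjective hψ)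
    (isFormallyEquidim_localization_quotient hA n Q (RingHom.ker ψ))

/-- An equidimensional local ring essentially of finite type over a formally catenary one is formally equidimensional. -/
theorem isFormallyEquidim_of_essFiniteType {A B : Type u} [CommRing A] [IsLocalRing A] [IsNoetherianRing A]
    (hA : EGA4.IsFormallyCatenary A) [CommRing B] [IsLocalRing B] [IsNoetherianRing B] [Algebra A B]
    [Algebra.EssFiniteType A B] (hB : EGA4.IsEquidim B) : EGA4.IsFormallyEquidim B := by
  refine isFormallyEquidim_iff.2 ⟨hB, fun P _ _ => ?_⟩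
  let p : Ideal A := P.under A
  haveI : IsLocalRing (B ⧸ P) := IsLocalRing.of_surjective' _ Ideal.Quotient.mk_surjective
  haveI : IsLocalRing (A ⧸ p) := IsLocalRing.of_surjective' _ Ideal.Quotient.mk_surjective
  haveI : Algebra.EssFiniteType B (B ⧸ P) := inferInstance
  haveI : Algebra.EssFiniteType A (B ⧸ P) := Algebra.EssFiniteType.comp A B (B ⧸ P)
  haveI : Algebra.EssFiniteType (A ⧸ p) (B ⧸ P) := Algebra.EssFiniteType.of_comp A (A ⧸ p) (B ⧸ P)
  exact isFormallyEquidim_of_essFiniteType_domain (hA p)

end Groth.Agent.RatliffLib
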