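import Groth.Agent.RatliffLib.Colimit
import Groth.Agent.RatliffLib.Formal
import Groth.Agent.CatLib.Basic
import Groth.Agent.Henselization.Transfer
import Mathlib.RingTheory.TensorProduct.MvPolynomial
import Mathlib.RingTheory.MvPolynomial.Localization
import Mathlib.RingTheory.Flat.Stability
import Mathlib.RingTheory.QuasiFinite.Basic
import Mathlib.RingTheory.Polynomial.Basic

/-!
The (strict) henselization of a universally catenary local ring is universally catenary.
-/

namespace Groth.Agent.RatliffLib

universe u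

open MvPolynomial Groth.Agent.Henselization

attribute [local instance] MvPolynomial.algebraMvPolynomial

theorem isCatenary_mvPolynomial_of_isLocalization {R S L : Type u} [CommRing R] [CommRing S] [CommRing L]
    [Algebra R S] [Algebra S L] [Algebra.FiniteType R S] (M : Submonoid S) [IsLocalization M L]
    (h : CAlg.IsUniversallyCatenary R) (n : ℕ) : CAlg.IsCatenary (MvPolynomial (Fin n) L) := by
  haveI : Algebra.FiniteType R (MvPolynomial (Fin n) S) := Algebra.FiniteType.trans ‹Algebra.FiniteType R S› inferInstance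
  exact CatLib.isCatenary_of_isLocalization (M.map (C : S →+* MvPolynomial (Fin n) S))
    (h.2 (MvPolynomial (Fin n) S) inferInstance)

theorem quasiFinite_mvPolynomial {R L : Type u} [CommRing R] [CommRing L] [Algebra R L]
    [Algebra.QuasiFinite R L] (n : ℕ) :
    Algebra.QuasiFinite (MvPolynomial (Fin n) R) (MvPolynomial (Fin n) L) :=
  (Algebra.QuasiFinite.iff_of_algEquiv
    (Algebra.IsPushout.equiv R (MvPolynomial (Fin n) R) L (MvPolynomial (Fin n) L))).1 inferInstance

theorem flat_mvPolynomial {L H : Type u} [CommRing L] [CommRing H] [Algebra L H] [Module.Flat L H] (n : ℕ) :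
    Module.Flat (MvPolynomial (Fin n) L) (MvPolynomial (Fin n) H) :=
  Module.Flat.of_linearEquiv
    (Algebra.IsPushout.equiv L (MvPolynomial (Fin n) L) H (MvPolynomial (Fin n) H)).toLinearEquiv.symm

noncomputable section

variable {R : Type u} [CommRing R] {K : Type u} [Field K] [Algebra R K]

attribute [local instance] algebraStage

theorem exists_stage_poly (n : ℕ) (F : Finset (MvPolynomial (Fin n) (Hz R K))) :
    ∃ i : Idx R K, ∀ z ∈ F, z ∈ Set.range (MvPolynomial.map (σ := Fin n) (ι i).toRingHom) := by
  classical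
  obtain ⟨i, hi⟩ := exists_lift_finset (F.biUnion fun z => z.support.image fun d => coeff d z)
  refine ⟨i, fun z hz => ?_⟩
  refine mem_range_map_iff_coeffs_subset.2 fun c hc => ?_
  obtain ⟨d, hd, rfl⟩ := mem_coeffs_iff.1 hc
  exact hi _ (Finset.mem_biUnion.2 ⟨z, hz, Finset.mem_image_of_mem _ hd⟩)

theorem strictMono_comap_mvPolynomial (n : ℕ) :
    StrictMono (PrimeSpectrum.comap (algebraMap (MvPolynomial (Fin n) R) (MvPolynomial (Fin n) (Hz R K)))) := by
  intro P Q hlt
  have hle := (PrimeSpectrum.asIdeal_le_asIdeal P Q).2 hlt.le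
  refine lt_of_le_of_ne (Ideal.comap_mono hle) fun he => hlt.ne (PrimeSpectrum.ext ?_)
  refine le_antisymm hle fun z hz => ?_
  obtain ⟨i, hi⟩ := exists_stage_poly n {z}
  obtain ⟨x, rfl⟩ := hi z (Finset.mem_singleton_self z)
  haveI := quasiFinite_mvPolynomial (R := R) (L := i.L) n
  let f := MvPolynomial.map (σ := Fin n) (ι i).toRingHom
  have hf : f.comp (algebraMap (MvPolynomial (Fin n) R) (MvPolynomial (Fin n) i.L)) =
      algebraMap (MvPolynomial (Fin n) R) (MvPolynomial (Fin n) (Hz R K)) := by
    refine RingHom.ext fun p => ?_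
    simp only [RingHom.comp_apply, f, MvPolynomial.algebraMap_def, MvPolynomial.map_map]
    exact congrArg (fun g : R →+* Hz R K => MvPolynomial.map g p) (RingHom.ext (ι i).commutes)
  have h1 : (P.asIdeal.comap f).under (MvPolynomial (Fin n) R) = (Q.asIdeal.comap f).under (MvPolynomial (Fin n) R) := by
    rw [Ideal.under_def, Ideal.under_def, Ideal.comap_comap, Ideal.comap_comap, hf]
    exact congrArg PrimeSpectrum.asIdeal he
  have h2 := Algebra.QuasiFinite.eq_of_le_of_under_eq (R := MvPolynomial (Fin n) R) (P.asIdeal.comap f)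
    (Q.asIdeal.comap f) (Ideal.comap_mono hle) h1
  exact (Ideal.mem_comap (f := f)).1 (h2.ge (Ideal.mem_comap.2 hz))

theorem strictMono_comap_stage (i : Idx R K) (n : ℕ) :
    StrictMono (PrimeSpectrum.comap (algebraMap (MvPolynomial (Fin n) i.L) (MvPolynomial (Fin n) (Hz R K)))) := by
  intro P Q hlt
  refine lt_of_le_of_ne (Ideal.comap_mono ((PrimeSpectrum.asIdeal_le_asIdeal P Q).2 hlt.le)) fun he => ?_
  refine (strictMono_comap_mvPolynomial (R := R) (K := K) n hlt).ne ?_
  have hc : (algebraMap (MvPolynomial (Fin n) i.L) (MvPolynomial (Fin n) (Hz R K))).comp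
      (algebraMap (MvPolynomial (Fin n) R) (MvPolynomial (Fin n) i.L)) =
      algebraMap (MvPolynomial (Fin n) R) (MvPolynomial (Fin n) (Hz R K)) := by
    refine RingHom.ext fun p => ?_
    simp only [RingHom.comp_apply, MvPolynomial.algebraMap_def, MvPolynomial.map_map]
    exact congrArg (fun g : R →+* Hz R K => MvPolynomial.map g p) (RingHom.ext (ι i).commutes)
  rw [← hc, PrimeSpectrum.comap_comp_apply, PrimeSpectrum.comap_comp_apply, he]

theorem isUniversallyCatenary_hz [IsLocalRing R] [Algebra (IsLocalRing.ResidueField R) K]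
    [IsScalarTower R (IsLocalRing.ResidueField R) K] [Algebra.IsSeparable (IsLocalRing.ResidueField R) K]
    (h : CAlg.IsUniversallyCatenary R) : CAlg.IsUniversallyCatenary (Hz R K) := by
  haveI := h.1
  haveI : IsNoetherianRing (Hz R K) := Henselization.isNoetherianRing
  refine ⟨inferInstance, fun T _ _ hT => ?_⟩
  obtain ⟨n, φ, hφ⟩ := Algebra.FiniteType.iff_quotient_mvPolynomial''.1 hT
  refine isCatenary_of_ringEquiv (RingHom.quotientKerEquivOfSurjective (f := φ.toRingHom) hφ)
    (CatLib.isCatenary_quotient _ (isCatenary_of_stages fun F => ?_))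
  obtain ⟨i, hi⟩ := exists_stage_poly n F
  exact ⟨MvPolynomial (Fin n) i.L, inferInstance, inferInstance, flat_mvPolynomial n,
    isCatenary_mvPolynomial_of_isLocalization (R := R) i.q.primeCompl h n, strictMono_comap_stage i n,
    hi⟩

theorem isUniversallyCatenary_of_strictHenselization (R S : Type u) [CommRing R] [IsLocalRing R]
    [CommRing S] [IsLocalRing S] [Algebra R S] [IsLocalHom (algebraMap R S)] [Hensel.IsStrictHenselization R S]
    (h : CAlg.IsUniversallyCatenary R) : CAlg.IsUniversallyCatenary S := by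
  obtain ⟨e⟩ := exists_algEquiv_of_isStrictHenselization R S
  obtain ⟨hn, hc⟩ := isUniversallyCatenary_hz (R := R) (K := SeparableClosure (IsLocalRing.ResidueField R)) h
  haveI := hn
  refine ⟨isNoetherianRing_of_ringEquiv _ e.toRingEquiv, fun T _ _ hT => ?_⟩
  letI : Algebra (StrictHenselizationRing R) S := e.toRingEquiv.toRingHom.toAlgebra
  letI : Algebra (StrictHenselizationRing R) T := ((algebraMap S T).comp e.toRingEquiv.toRingHom).toAlgebra
  haveI : IsScalarTower (StrictHenselizationRing R) S T := IsScalarTower.of_algebraMap_eq' rfl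
  haveI : Algebra.FiniteType (StrictHenselizationRing R) S :=
    Algebra.FiniteType.of_surjective (Algebra.ofId _ _) e.surjective
  exact hc T (Algebra.FiniteType.trans ‹_› hT)

end

end Groth.Agent.RatliffLib
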