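import Mathlib
import Groth.Prelude.Def_CAlg
import Groth.Agent.RatliffLib.Formal
import Groth.Agent.CMCat.Local
import Groth.Agent.Depth.Basic

/-!
Associated primes of completions: quotients by primes embedded in modules of known depth.
-/

set_option autoImplicit false

universe u

open IsLocalRing TensorProduct

namespace Groth.Agent.RatliffLib

theorem associatedPrime_fibre {A A' N : Type u} [CommRing A] [CommRing A'] [Algebra A A'] [Module.Flat A A']
    [IsNoetherianRing A'] [AddCommGroup N] [Module A N] (I : Ideal A) (f : (A ⧸ I) →ₗ[A] N)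
    (hf : Function.Injective f) {q : Ideal (A' ⧸ I.map (algebraMap A A'))}
    (hq : q ∈ associatedPrimes (A' ⧸ I.map (algebraMap A A')) (A' ⧸ I.map (algebraMap A A'))) :
    q.comap (Ideal.Quotient.mk (I.map (algebraMap A A'))) ∈ associatedPrimes A' (A' ⊗[A] N) := by
  let e : (A' ⧸ I.map (algebraMap A A')) ≃ₗ[A'] A' ⊗[A] (A ⧸ I) :=
    (Algebra.TensorProduct.quotIdealMapEquivTensorQuot A' I).toLinearEquiv
  have hg : Function.Injective ((f.baseChange A').comp e.toLinearMap) := by
    rw [LinearMap.coe_comp]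
    exact (Module.Flat.lTensor_preserves_injective_linearMap f hf).comp e.injective
  obtain ⟨hqp, z, hz⟩ := isAssociatedPrime_iff.1 hq
  haveI := hqp
  have hQ : IsAssociatedPrime (q.comap (Ideal.Quotient.mk (I.map (algebraMap A A'))))
      (A' ⧸ I.map (algebraMap A A')) := by
    refine isAssociatedPrime_iff.2 ⟨Ideal.IsPrime.comap _, z, Ideal.ext fun r => ?_⟩
    rw [Ideal.mem_comap, hz, Submodule.mem_colon_singleton, Submodule.mem_colon_singleton]
    rfl
  exact hQ.map_of_injective _ hg

theorem isEquidim_of_isStrictlyEquidim {R : Type u} [CommRing R] [IsNoetherianRing R]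
    (h : EGA4.IsStrictlyEquidim R) : EGA4.IsEquidim R := fun p hp =>
  h p (Module.associatedPrimes.minimalPrimes_annihilator_subset_associatedPrimes R R (by
    rwa [Module.annihilator_eq_bot.2 inferInstance]))

theorem isStrictlyEquidim_of_ringEquiv {R S : Type u} [CommRing R] [CommRing S] [IsNoetherianRing R]
    [IsNoetherianRing S] (e : R ≃+* S) (h : EGA4.IsStrictlyEquidim R) : EGA4.IsStrictlyEquidim S := by
  intro q hq
  obtain ⟨hqp, z, hz⟩ := isAssociatedPrime_iff.1 hq
  have hp : q.comap (e : R →+* S) ∈ associatedPrimes R R := by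
    refine isAssociatedPrime_iff.2 ⟨Ideal.IsPrime.comap _, e.symm z, Ideal.ext fun r => ?_⟩
    rw [Ideal.mem_comap, hz, Submodule.mem_colon_singleton, Submodule.mem_colon_singleton]
    simp only [smul_eq_mul, Submodule.mem_bot]
    rw [← map_eq_zero_iff e e.injective (x := r * e.symm z), map_mul, e.apply_symm_apply]
    rfl
  rw [← ringKrullDim_eq_of_ringEquiv e, ← h _ hp]
  exact (ringKrullDim_eq_of_ringEquiv (Ideal.quotientEquiv _ q e
    (Ideal.map_comap_of_surjective _ e.surjective q).symm)).symm

/-- If all associated primes upstairs have quotients of dimension at least that of the ring, it is strictly equidimensional. -/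
theorem isStrictlyEquidim_of_le {R : Type u} [CommRing R]
    (h : ∀ q ∈ associatedPrimes R R, ringKrullDim R ≤ ringKrullDim (R ⧸ q)) : EGA4.IsStrictlyEquidim R :=
  fun q hq => le_antisymm (ringKrullDim_quotient_le q) (h q hq)

/-- A quotient by a minimal prime of a ring with strictly equidimensional completion has the same property. -/
theorem isStrictlyEquidim_completion_quotient_minimal {T : Type u} [CommRing T] [IsLocalRing T] [IsNoetherianRing T]
    (h : EGA4.IsStrictlyEquidim (AdicCompletion (maximalIdeal T) T)) (q : Ideal T) [q.IsPrime]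
    (hq : q ∈ minimalPrimes T) [IsLocalRing (T ⧸ q)] :
    EGA4.IsStrictlyEquidim (AdicCompletion (maximalIdeal (T ⧸ q)) (T ⧸ q)) := by
  obtain ⟨_, _, _, _, _⟩ := compl_facts T
  obtain ⟨_, _, _, _, _⟩ := compl_facts (T ⧸ q)
  have hass : q ∈ associatedPrimes T T := Module.associatedPrimes.minimalPrimes_annihilator_subset_associatedPrimes T T (by
    rwa [Module.annihilator_eq_bot.2 inferInstance])
  obtain ⟨-, f, hf⟩ := (isAssociatedPrime_iff_exists_injective_linearMap _ _).1 hass
  obtain ⟨e, -⟩ := CMCat.exists_complQuotEquiv q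
  refine isStrictlyEquidim_of_ringEquiv e (isStrictlyEquidim_of_le fun r hr => ?_)
  haveI := hr.1
  have hQ := associatedPrime_fibre (A' := AdicCompletion (maximalIdeal T) T) q f hf hr
  have hQ' := IsAssociatedPrime.map_of_injective
    (TensorProduct.AlgebraTensorModule.rid T (AdicCompletion (maximalIdeal T) T)
      (AdicCompletion (maximalIdeal T) T)).toLinearMap hQ (LinearEquiv.injective _)
  refine (ringKrullDim_quotient_le _).trans ?_
  rw [← h _ hQ']
  exact le_of_eq (ringKrullDim_eq_of_ringEquiv (((DoubleQuot.quotQuotEquivQuotOfLE (fun x hx => by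
    rw [Ideal.mem_comap, Ideal.Quotient.eq_zero_iff_mem.2 hx]; exact zero_mem _)).symm).trans
    (Ideal.quotEquivOfEq (Ideal.map_comap_of_surjective _ Ideal.Quotient.mk_surjective r))))

section CM

variable {A : Type u} [CommRing A] [IsLocalRing A] [IsNoetherianRing A]

theorem smul_top_ne' {M : Type u} [AddCommGroup M] [Module A M] [Module.Finite A M] [Nontrivial M] :
    maximalIdeal A • (⊤ : Submodule A M) ≠ ⊤ :=
  (Submodule.top_ne_ideal_smul_of_le_jacobson_annihilator (maximalIdeal_le_jacobson _)).symm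

theorem exists_depth_eq {M : Type u} [AddCommGroup M] [Module A M] [Module.Finite A M] [Nontrivial M] :
    ∃ d : ℕ, LocCoh.depth A M = d := by
  obtain ⟨rs, hrs⟩ := Depth.exists_isMaxSeq (I := maximalIdeal A) (M := M) smul_top_ne'
  exact ⟨rs.length, Depth.idealDepth_eq_length smul_top_ne' hrs⟩

theorem dim_quotient_le_supportDim {M : Type u} [AddCommGroup M] [Module A M] [Module.Finite A M]
    (p : PrimeSpectrum A) (hp : p ∈ Module.support A M) : ringKrullDim (A ⧸ p.asIdeal) ≤ Module.supportDim A M := by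
  rw [Module.supportDim_eq_ringKrullDim_quotient_annihilator]
  have hle : Module.annihilator A M ≤ p.asIdeal := Module.mem_support_iff_of_finite.1 hp
  exact ringKrullDim_le_of_surjective (Ideal.Quotient.factor hle) (Ideal.Quotient.factor_surjective hle)

/-- Associated primes of a Cohen–Macaulay module have quotients of full dimension. -/
theorem dim_quotient_eq_of_cm {M : Type u} [AddCommGroup M] [Module A M] [Module.Finite A M] [Nontrivial M]
    (hM : LocCoh.IsCohenMacaulayModule A M) {d : ℕ} (hd : LocCoh.depth A M = d) {p : Ideal A}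
    (hp : p ∈ associatedPrimes A M) : ringKrullDim (A ⧸ p) = (d : WithBot ℕ∞) := by
  refine le_antisymm ?_ (CMCat.depth_le_ringKrullDim_quotient hd hp)
  refine (dim_quotient_le_supportDim ⟨p, hp.1⟩ ?_).trans (le_of_eq (hM.trans (by rw [hd]; rfl)))
  rw [Module.mem_support_iff_of_finite]
  intro a ha
  obtain ⟨-, x, hx⟩ := isAssociatedPrime_iff.1 hp
  have h1 : a ∈ (⊥ : Submodule A M).colon {x} :=
    Submodule.mem_colon_singleton.2 ((Submodule.mem_bot A).2 (Module.mem_annihilator.1 ha x))
  exact hx.ge h1

/-- A prime in the support of a CM module is an associated prime of a CM module. -/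
theorem exists_cm_embedding (p : Ideal A) [hp : p.IsPrime] :
    ∀ (d : ℕ) (M : Type u) [AddCommGroup M] [Module A M] [Module.Finite A M], LocCoh.IsCohenMacaulayModule A M →
      LocCoh.depth A M = d → (⟨p, hp⟩ : PrimeSpectrum A) ∈ Module.support A M →
      ∃ (N : Type u) (_ : AddCommGroup N) (_ : Module A N) (_ : Module.Finite A N) (e : ℕ)
        (f : (A ⧸ p) →ₗ[A] N), Function.Injective f ∧ LocCoh.depth A N = e ∧
          ringKrullDim (A ⧸ p) = (e : WithBot ℕ∞) := by
  intro d
  induction d with
  | zero =>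
    intro M _ _ _ hM hd hsupp
    haveI : Nontrivial M := by
      rw [← Module.nonempty_support_iff (R := A)]
      exact ⟨_, hsupp⟩
    obtain ⟨q, hq, hqp⟩ := Ideal.exists_minimalPrimes_le (Module.mem_support_iff_of_finite.1 hsupp)
    have hqa := Module.associatedPrimes.minimalPrimes_annihilator_subset_associatedPrimes A M hq
    haveI := hq.1.1
    have h1 := dim_quotient_eq_of_cm hM hd hqa
    haveI : Ring.KrullDimLE 0 (A ⧸ q) := Ring.krullDimLE_iff.2 (le_of_eq h1)
    have hqm : q.IsMaximal := Ideal.Quotient.maximal_of_isField q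
      (Ring.KrullDimLE.isField_of_isDomain)
    obtain rfl : q = p := hqm.eq_of_le hp.ne_top hqp
    obtain ⟨-, f, hf⟩ := (isAssociatedPrime_iff_exists_injective_linearMap _ _).1 hqa
    exact ⟨M, inferInstance, inferInstance, inferInstance, 0, f, hf, hd, h1⟩
  | succ d ih =>
    intro M _ _ _ hM hd hsupp
    haveI : Nontrivial M := by
      rw [← Module.nonempty_support_iff (R := A)]
      exact ⟨_, hsupp⟩
    by_cases hpa : p ∈ associatedPrimes A M
    · obtain ⟨-, f, hf⟩ := (isAssociatedPrime_iff_exists_injective_linearMap _ _).1 hpa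
      exact ⟨M, inferInstance, inferInstance, inferInstance, d + 1, f, hf, hd, dim_quotient_eq_of_cm hM hd hpa⟩
    -- an element of `p` regular on `M`
    obtain ⟨x, hxp, hxreg⟩ : ∃ x ∈ p, IsSMulRegular M x := by
      by_contra hall
      push Not at hall
      have hsub : (p : Set A) ⊆ ⋃ q ∈ associatedPrimes A M, q := by
        rw [biUnion_associatedPrimes_eq_compl_regular]
        exact fun a ha => hall a ha
      obtain ⟨q, hq, hpq⟩ := (Ideal.subset_union_prime_finite (associatedPrimes.finite A M) ⊥ ⊥
        fun q hq _ _ => hq.1).1 hsub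
      refine hpa ?_
      obtain ⟨q₀, hq₀, hq₀p⟩ := Ideal.exists_minimalPrimes_le (Module.mem_support_iff_of_finite.1 hsupp)
      have hq₀a := Module.associatedPrimes.minimalPrimes_annihilator_subset_associatedPrimes A M hq₀
      haveI := hq.1
      haveI := hq₀.1.1
      have h1 := dim_quotient_eq_of_cm hM hd hq
      have h2 := dim_quotient_eq_of_cm hM hd hq₀a
      have heq : q₀ = q := by
        by_contra hne
        have hlt : (⟨q₀, hq₀.1.1⟩ : PrimeSpectrum A) < ⟨q, hq.1⟩ :=
          lt_of_le_of_ne (show q₀ ≤ q from hq₀p.trans hpq) fun h => hne (congrArg PrimeSpectrum.asIdeal h)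
        have h3 := Order.coheight_add_one_le hlt
        rw [CatLib.ringKrullDim_quotient_eq_coheight ⟨q, hq.1⟩] at h1
        rw [CatLib.ringKrullDim_quotient_eq_coheight ⟨q₀, hq₀.1.1⟩] at h2
        have c1 : Order.coheight (⟨q, hq.1⟩ : PrimeSpectrum A) = ((d + 1 : ℕ) : ℕ∞) :=
          WithBot.coe_injective (h1.trans rfl)
        have c2 : Order.coheight (⟨q₀, hq₀.1.1⟩ : PrimeSpectrum A) = ((d + 1 : ℕ) : ℕ∞) :=
          WithBot.coe_injective (h2.trans rfl)
        rw [c1, c2] at h3
        have h4 : (((d + 1) + 1 : ℕ) : ℕ∞) ≤ ((d + 1 : ℕ) : ℕ∞) := by push_cast at h3 ⊢; exact h3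
        exact absurd (Nat.cast_le.1 h4) (by omega)
      rwa [show p = q₀ from le_antisymm (heq ▸ hpq) hq₀p]
    have hxm : x ∈ maximalIdeal A := le_maximalIdeal hp.ne_top hxp
    haveI : Nontrivial (QuotSMulTop x M) :=
      nontrivial_quotSMulTop_of_mem_maximalIdeal M hxm
    obtain ⟨e, he⟩ := exists_depth_eq (A := A) (M := QuotSMulTop x M)
    have hsd : Module.supportDim A (QuotSMulTop x M) + 1 = Module.supportDim A M :=
      Module.supportDim_quotSMulTop_succ_eq_supportDim hxreg hxm
    have hge : (d : ℕ∞) ≤ LocCoh.depth A (QuotSMulTop x M) := by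
      have hne : maximalIdeal A • (⊤ : Submodule A M) ≠ ⊤ := smul_top_ne'
      obtain ⟨s, hs, hsm, hsw⟩ := (Depth.le_idealDepth_iff hne (d + 1)).1 hd.ge
      obtain ⟨t, ht, htm, htw⟩ := Depth.exists_seq_quotSMulTop hne hxm hxreg hsw hsm hs
      exact (Depth.le_idealDepth_iff smul_top_ne' d).2 ⟨t, ht, htm, htw⟩
    rw [he, Nat.cast_le] at hge
    obtain ⟨s, hs⟩ : ∃ s : ℕ, Module.supportDim A (QuotSMulTop x M) = (s : WithBot ℕ∞) := by
      obtain ⟨q, hq⟩ := (Module.nonempty_support_iff (R := A)).2 ‹Nontrivial (QuotSMulTop x M)›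
      rw [Module.supportDim_eq_ringKrullDim_quotient_annihilator]
      haveI : Nontrivial (A ⧸ Module.annihilator A (QuotSMulTop x M)) := Ideal.Quotient.nontrivial_iff.2
        fun h => q.isPrime.ne_top (top_le_iff.1 (h ▸ Module.mem_support_iff_of_finite.1 hq))
      haveI : IsLocalRing (A ⧸ Module.annihilator A (QuotSMulTop x M)) :=
        IsLocalRing.of_surjective' _ Ideal.Quotient.mk_surjective
      obtain ⟨n, hn⟩ := ENat.ne_top_iff_exists.mp (height_ne_top' (closedPoint (A ⧸ Module.annihilator A (QuotSMulTop x M))))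
      exact ⟨n, by rw [dim_eq_height_closedPoint, ← hn]; rfl⟩
    have hsd' : s + 1 = d + 1 := by
      rw [hs, show Module.supportDim A M = ((d + 1 : ℕ) : WithBot ℕ∞) from hM.trans (by rw [hd]; rfl)] at hsd
      exact_mod_cast hsd
    have hle : e ≤ s := by
      obtain ⟨P, hP⟩ := associatedPrimes.nonempty A (QuotSMulTop x M)
      have h1 := CMCat.depth_le_ringKrullDim_quotient he hP
      have h2 : ringKrullDim (A ⧸ P) ≤ Module.supportDim A (QuotSMulTop x M) := by
        refine dim_quotient_le_supportDim ⟨P, hP.1⟩ ?_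
        rw [Module.mem_support_iff_of_finite]
        intro a ha
        obtain ⟨-, y, hy⟩ := isAssociatedPrime_iff.1 hP
        have h1 : a ∈ (⊥ : Submodule A (QuotSMulTop x M)).colon {y} :=
          Submodule.mem_colon_singleton.2 ((Submodule.mem_bot A).2 (Module.mem_annihilator.1 ha y))
        exact hy.ge h1
      have h3 := h1.trans h2
      rw [hs] at h3
      exact_mod_cast h3
    obtain rfl : e = d := by omega
    refine ih (QuotSMulTop x M) ?_ he ?_
    · show Module.supportDim A (QuotSMulTop x M) = _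
      rw [hs, he, show s = e by omega]
      rfl
    · rw [Module.support_quotSMulTop]
      exact ⟨hsupp, by simpa [PrimeSpectrum.mem_zeroLocus] using hxp⟩

/-- With a CM module of full support all completed prime quotients are strictly equidimensional. -/
theorem isFormallyStrictlyCatenary_of_cm_module (M : Type u) [AddCommGroup M] [Module A M] [Module.Finite A M]
    (hM : LocCoh.IsCohenMacaulayModule A M) (hsupp : Module.support A M = Set.univ) :
    EGA4.IsFormallyStrictlyCatenary A := by
  intro p hp
  haveI : IsLocalRing (A ⧸ p) := IsLocalRing.of_surjective' _ Ideal.Quotient.mk_surjective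
  haveI : Nontrivial M := by
    rw [← Module.nonempty_support_iff (R := A), hsupp]
    exact ⟨closedPoint A, trivial⟩
  obtain ⟨d, hd⟩ := exists_depth_eq (A := A) (M := M)
  obtain ⟨N, _, _, _, e, f, hf, hNe, hdim⟩ := exists_cm_embedding p d M hM hd (by rw [hsupp]; trivial)
  obtain ⟨_, _, _, _, hmax⟩ := compl_facts A
  obtain ⟨_, _, _, _, _⟩ := compl_facts (A ⧸ p)
  let Ah := AdicCompletion (maximalIdeal A) A
  obtain ⟨eq, -⟩ := CMCat.exists_complQuotEquiv p
  haveI : Module.FaithfullyFlat A Ah := Module.FaithfullyFlat.of_flat_of_isLocalHom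
  have hdepth : LocCoh.depth Ah (Ah ⊗[A] N) = e := by
    rw [← hNe, LocCoh.depth, LocCoh.depth, hmax]
    exact Depth.idealDepth_baseChange Ah (Ah ⊗[A] N) (TensorProduct.isBaseChange A N Ah)
  refine isStrictlyEquidim_of_ringEquiv eq (isStrictlyEquidim_of_le fun r hr => ?_)
  haveI := hr.1
  have hQ := associatedPrime_fibre (A' := Ah) p f hf hr
  haveI : Nontrivial (Ah ⊗[A] N) := by
    obtain ⟨-, y, hy⟩ := isAssociatedPrime_iff.1 hQ
    refine ⟨⟨y, 0, fun h0 => hr.1.ne_top ?_⟩⟩
    rw [← Ideal.map_comap_of_surjective _ Ideal.Quotient.mk_surjective r, hy, h0, Submodule.colon_singleton_zero,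
      Ideal.map_top]
  have hbound := CMCat.depth_le_ringKrullDim_quotient hdepth hQ
  rw [ringKrullDim_eq_of_ringEquiv eq, RegLocal.ringKrullDim_completion (A ⧸ p) _ (maximalIdeal.isMaximal _).ne_top,
    hdim]
  refine hbound.trans (le_of_eq (ringKrullDim_eq_of_ringEquiv ((DoubleQuot.quotQuotEquivQuotOfLE (fun x hx => by
    rw [Ideal.mem_comap, Ideal.Quotient.eq_zero_iff_mem.2 hx]; exact zero_mem _)).symm.trans
    (Ideal.quotEquivOfEq (Ideal.map_comap_of_surjective _ Ideal.Quotient.mk_surjective r)))))

theorem isFormallyEquidim_of_cm_module (M : Type u) [AddCommGroup M] [Module A M] [Module.Finite A M]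
    (hM : LocCoh.IsCohenMacaulayModule A M) (hsupp : Module.support A M = Set.univ) :
    EGA4.IsFormallyEquidim A := by
  haveI : Nontrivial M := by
    rw [← Module.nonempty_support_iff (R := A), hsupp]
    exact ⟨closedPoint A, trivial⟩
  obtain ⟨d, hd⟩ := exists_depth_eq (A := A) (M := M)
  have hmin : ∀ p ∈ minimalPrimes A, ringKrullDim (A ⧸ p) = (d : WithBot ℕ∞) := by
    intro p hp
    have hsp : (⟨p, hp.1.1⟩ : PrimeSpectrum A) ∈ Module.support A M := by rw [hsupp]; trivial
    have hann : p ∈ (Module.annihilator A M).minimalPrimes :=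
      ⟨⟨hp.1.1, Module.mem_support_iff_of_finite.1 hsp⟩, fun q hq hqp => hp.2 ⟨hq.1, bot_le⟩ hqp⟩
    exact dim_quotient_eq_of_cm hM hd (Module.associatedPrimes.minimalPrimes_annihilator_subset_associatedPrimes A M hann)
  refine isFormallyEquidim_iff.2 ⟨(isEquidim_of_forall _ hmin).1, fun p _ _ => ?_⟩
  haveI : IsLocalRing (A ⧸ p) := IsLocalRing.of_surjective' _ Ideal.Quotient.mk_surjective
  obtain ⟨_, _, _, _, _⟩ := compl_facts (A ⧸ p)
  exact isEquidim_of_isStrictlyEquidim (isFormallyStrictlyCatenary_of_cm_module M hM hsupp p)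

end CM

end Groth.Agent.RatliffLib
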