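import Mathlib
import Groth.Agent.RatliffLib.Strict
import Groth.Agent.S1993
import Groth.Agent.PairHens.Basic
import Groth.Agent.Henselization.BaseChange
import Groth.Agent.Henselization.Fibre
import Groth.Agent.Henselization.Basic
import Groth.Agent.Henselization.Properties

/-!
Completions of henselizations and formal catenarity.
-/

set_option autoImplicit false

universe u

open IsLocalRing

namespace Groth.Agent.RatliffLib

/-- A map which is bijective modulo all powers induces an isomorphism of completions. -/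
theorem exists_complEquiv {A B : Type u} [CommRing A] [CommRing B] (φ : A →+* B) (I : Ideal A) (J : Ideal B)
    (h : I.map φ ≤ J)
    (hbij : ∀ n, Function.Bijective (Ideal.quotientMap (J ^ n) φ (I := I ^ n) (by
      rw [← Ideal.map_le_iff_le_comap, Ideal.map_pow]; exact Ideal.pow_right_mono h n))) :
    Function.Bijective (CMCat.complHom φ I J h) := by
  let E : ∀ n, (A ⧸ I ^ n) ≃+* (B ⧸ J ^ n) := fun n => RingEquiv.ofBijective _ (hbij n)
  have hE : ∀ n (x : AdicCompletion I A), CMCat.levelHom φ I J h n x = E n (AdicCompletion.evalₐ I n x) :=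
    fun n x => rfl
  let inv : ∀ n, AdicCompletion J B →+* A ⧸ I ^ n := fun n =>
    (E n).symm.toRingHom.comp (AdicCompletion.evalₐ J n).toRingHom
  have hcompat : ∀ {k n : ℕ} (hle : k ≤ n), (Ideal.Quotient.factorPow I hle).comp (inv n) = inv k := by
    intro k n hle
    refine RingHom.ext fun y => (E k).injective ?_
    have h1 : ∀ z : A ⧸ I ^ n, E k (Ideal.Quotient.factorPow I hle z) = Ideal.Quotient.factorPow J hle (E n z) := by
      intro z
      obtain ⟨a, rfl⟩ := Ideal.Quotient.mk_surjective z
      rfl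
    show E k (Ideal.Quotient.factorPow I hle ((E n).symm (AdicCompletion.evalₐ J n y))) =
      E k ((E k).symm (AdicCompletion.evalₐ J k y))
    rw [h1, RingEquiv.apply_symm_apply, RingEquiv.apply_symm_apply]
    induction y using AdicCompletion.induction_on with
    | h f =>
      rw [AdicCompletion.evalₐ_mk, AdicCompletion.evalₐ_mk, Ideal.Quotient.factor_mk,
        Ideal.Quotient.mk_eq_mk_iff_sub_mem]
      exact CMCat.cauchy_sub_mem J f hle
  refine ⟨fun x y hxy => AdicCompletion.ext_evalₐ fun n => (E n).injective ?_, fun y => ?_⟩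
  · rw [← hE, ← hE, ← CMCat.evalₐ_complHom, ← CMCat.evalₐ_complHom, hxy]
  · refine ⟨AdicCompletion.liftRingHom I inv hcompat y, AdicCompletion.ext_evalₐ fun n => ?_⟩
    rw [CMCat.evalₐ_complHom, hE, AdicCompletion.evalₐ_liftRingHom]
    exact (E n).apply_symm_apply _

variable (R S : Type u) [CommRing R] [IsLocalRing R] [IsNoetherianRing R]
  [CommRing S] [IsLocalRing S] [Algebra R S] [IsLocalHom (algebraMap R S)] [_root_.Hensel.IsHenselization R S]

theorem henselization_facts :
    Henselization.FineFibres R S ∧ (maximalIdeal R).map (algebraMap R S) = maximalIdeal S ∧ IsNoetherianRing S := by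
  obtain ⟨e⟩ := Henselization.exists_algEquiv_of_isHenselization R S
  exact ⟨Henselization.fineFibres_of_equiv e, Henselization.map_maximalIdeal_of_equiv e,
    (Henselization.isNoetherianRing_of_equiv e).2 inferInstance⟩

theorem exists_complEquiv_henselization :
    Nonempty (AdicCompletion (maximalIdeal R) R ≃+* AdicCompletion (maximalIdeal S) S) := by
  obtain ⟨-, hm, -⟩ := henselization_facts R S
  have hP := (S1993.result R S).2 ‹_›
  refine ⟨RingEquiv.ofBijective _ (exists_complEquiv (algebraMap R S) (maximalIdeal R) (maximalIdeal S) hm.le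
    fun n => ?_)⟩
  have h1 := PairHens.quotientMap_pow_bijective hP n
  have h2 : ((maximalIdeal R) ^ n).map (algebraMap R S) = maximalIdeal S ^ n := by rw [Ideal.map_pow, hm]
  let e := Ideal.quotEquivOfEq h2
  convert! e.bijective.comp h1 using 1
  funext x
  obtain ⟨a, rfl⟩ := Ideal.Quotient.mk_surjective x
  rfl

/-- For a prime `q` of the henselization over `p`: `q` is minimal over `pS` and the completion of `S/pS` is that of `R/p`. -/
theorem fibre_data (q : Ideal S) [q.IsPrime] [IsLocalRing (R ⧸ q.under R)]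
    [IsLocalRing (S ⧸ (q.under R).map (algebraMap R S))] :
    q.map (Ideal.Quotient.mk ((q.under R).map (algebraMap R S))) ∈
        minimalPrimes (S ⧸ (q.under R).map (algebraMap R S)) ∧
      Nonempty (AdicCompletion (maximalIdeal (R ⧸ q.under R)) (R ⧸ q.under R) ≃+*
        AdicCompletion (maximalIdeal (S ⧸ (q.under R).map (algebraMap R S)))
          (S ⧸ (q.under R).map (algebraMap R S))) := by
  obtain ⟨hff, -, -⟩ := henselization_facts R S
  set K := (q.under R).map (algebraMap R S)
  have hKq : K ≤ q := Ideal.map_le_iff_le_comap.2 le_rfl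
  refine ⟨?_, ?_⟩
  · have hq : q ∈ K.minimalPrimes := ⟨⟨inferInstance, hKq⟩, fun Q hQ hQq => by
      have h1 : Q.comap (algebraMap R S) = q.comap (algebraMap R S) :=
        le_antisymm (Ideal.comap_mono hQq) (Ideal.map_le_iff_le_comap.1 hQ.2)
      exact (hff.eq_of_le Q q hQ.1 inferInstance hQq h1).ge⟩
    show _ ∈ (⊥ : Ideal (S ⧸ K)).minimalPrimes
    rw [← Ideal.map_quotient_self K, Ideal.minimalPrimes_map_of_surjective Ideal.Quotient.mk_surjective]
    exact ⟨q, by rwa [Ideal.mk_ker, sup_idem], rfl⟩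
  · haveI : IsLocalHom (algebraMap (R ⧸ q.under R) (S ⧸ K)) := by
      haveI : IsLocalHom (Ideal.Quotient.mk K) := Ideal.Quotient.mk_surjective.isLocalHom _
      refine ⟨fun x hx => ?_⟩
      obtain ⟨a', rfl⟩ := Ideal.Quotient.mk_surjective x
      have h1 : IsUnit (Ideal.Quotient.mk K (algebraMap R S a')) := hx
      exact (isUnit_of_map_unit (algebraMap R S) a' (isUnit_of_map_unit _ _ h1)).map _
    haveI := Henselization.isHenselization_quotient (A := R) (S := S) (q.under R)
    exact exists_complEquiv_henselization (R ⧸ q.under R) (S ⧸ K)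

theorem isFormallyCatenary_henselization (h : EGA4.IsFormallyCatenary R) : EGA4.IsFormallyCatenary S := by
  intro q _
  obtain ⟨-, -, hnS⟩ := henselization_facts R S
  haveI := hnS
  haveI : IsLocalRing (R ⧸ q.under R) := IsLocalRing.of_surjective' _ Ideal.Quotient.mk_surjective
  set K := (q.under R).map (algebraMap R S)
  have hKq : K ≤ q := Ideal.map_le_iff_le_comap.2 le_rfl
  haveI : Nontrivial (S ⧸ K) := Ideal.Quotient.nontrivial_iff.2
    fun hK => (Ideal.IsPrime.ne_top ‹q.IsPrime›) (top_le_iff.1 (hK ▸ hKq))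
  haveI : IsLocalRing (S ⧸ K) := IsLocalRing.of_surjective' _ Ideal.Quotient.mk_surjective
  obtain ⟨hmin, ⟨e⟩⟩ := fibre_data R S q
  have hT : EGA4.IsFormallyEquidim (S ⧸ K) := CMCat.isEquidim_of_ringEquiv e (h (q.under R))
  haveI := hmin.1.1
  haveI : IsLocalRing ((S ⧸ K) ⧸ q.map (Ideal.Quotient.mk K)) :=
    IsLocalRing.of_surjective' _ Ideal.Quotient.mk_surjective
  exact CMCat.isFormallyEquidim_of_ringEquiv (DoubleQuot.quotQuotEquivQuotOfLE hKq)
    ((isFormallyEquidim_iff.1 hT).2 _ hmin)

theorem isFormallyStrictlyCatenary_henselization (h : EGA4.IsFormallyStrictlyCatenary R) :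
    EGA4.IsFormallyStrictlyCatenary S := by
  intro q _
  obtain ⟨-, -, hnS⟩ := henselization_facts R S
  haveI := hnS
  haveI : IsLocalRing (R ⧸ q.under R) := IsLocalRing.of_surjective' _ Ideal.Quotient.mk_surjective
  set K := (q.under R).map (algebraMap R S)
  have hKq : K ≤ q := Ideal.map_le_iff_le_comap.2 le_rfl
  haveI : Nontrivial (S ⧸ K) := Ideal.Quotient.nontrivial_iff.2
    fun hK => (Ideal.IsPrime.ne_top ‹q.IsPrime›) (top_le_iff.1 (hK ▸ hKq))
  haveI : IsLocalRing (S ⧸ K) := IsLocalRing.of_surjective' _ Ideal.Quotient.mk_surjective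
  obtain ⟨hmin, ⟨e⟩⟩ := fibre_data R S q
  obtain ⟨_, _, _, _, _⟩ := compl_facts (R ⧸ q.under R)
  obtain ⟨_, _, _, _, _⟩ := compl_facts (S ⧸ K)
  have hT := isStrictlyEquidim_of_ringEquiv e (h (q.under R))
  haveI := hmin.1.1
  haveI : IsLocalRing ((S ⧸ K) ⧸ q.map (Ideal.Quotient.mk K)) :=
    IsLocalRing.of_surjective' _ Ideal.Quotient.mk_surjective
  haveI : IsLocalRing (S ⧸ q) := IsLocalRing.of_surjective' _ Ideal.Quotient.mk_surjective
  obtain ⟨_, _, _, _, _⟩ := compl_facts (S ⧸ q)
  obtain ⟨_, _, _, _, _⟩ := compl_facts ((S ⧸ K) ⧸ q.map (Ideal.Quotient.mk K))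
  exact isStrictlyEquidim_of_ringEquiv
    (ExcLib.complEquiv (DoubleQuot.quotQuotEquivQuotOfLE hKq) _ _ (IsLocalRing.map_ringEquiv_maximalIdeal _))
    (isStrictlyEquidim_completion_quotient_minimal hT _ hmin)

end Groth.Agent.RatliffLib
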