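import Groth.Prelude
import Mathlib.RingTheory.Ideal.GoingDown
import Mathlib.RingTheory.Spectrum.Prime.RingHom
import Mathlib.RingTheory.Flat.Basic

/-!
A Noetherian ring which is a "flat colimit with incomparable fibres" of catenary rings is catenary.
-/

namespace Groth.Agent.RatliffLib

universe u

open Order PrimeSpectrum

variable {B C : Type u} [CommRing B] [CommRing C] [Algebra B C]

/-- A covering of primes, both extended from `B`, contracts to a covering. -/
theorem covBy_comap_of_flat [Module.Flat B C]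
    (hmono : StrictMono (PrimeSpectrum.comap (algebraMap B C))) {P Q : PrimeSpectrum C} (hPQ : P ⋖ Q)
    (hP : P.asIdeal ≤ (P.asIdeal.comap (algebraMap B C)).map (algebraMap B C)) :
    PrimeSpectrum.comap (algebraMap B C) P ⋖ PrimeSpectrum.comap (algebraMap B C) Q := by
  refine ⟨hmono hPQ.1, fun r hpr hrq => ?_⟩
  haveI : Q.asIdeal.LiesOver (PrimeSpectrum.comap (algebraMap B C) Q).asIdeal := ⟨rfl⟩
  obtain ⟨R, hRQ, hRp, hRr⟩ := Ideal.exists_ideal_le_liesOver_of_le (S := C) Q.asIdeal
    ((PrimeSpectrum.asIdeal_le_asIdeal _ _).2 hrq.le)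
  let R' : PrimeSpectrum C := ⟨R, hRp⟩
  have hR' : PrimeSpectrum.comap (algebraMap B C) R' = r := PrimeSpectrum.ext hRr.over.symm
  have hPR : P ≤ R' := by
    refine hP.trans (Ideal.map_le_iff_le_comap.2 ?_)
    exact ((PrimeSpectrum.asIdeal_le_asIdeal _ _).2 hpr.le).trans hRr.over.le
  refine hPQ.2 (lt_of_le_of_ne hPR fun h => hpr.ne ?_) (lt_of_le_of_ne hRQ fun h => hrq.ne ?_)
  · rw [h, hR']
  · rw [← h, hR']

/-- A Noetherian ring is catenary if every finite subset comes from a catenary ring over which it is flat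
with zero-dimensional fibres. -/
theorem isCatenary_of_stages [IsNoetherianRing C]
    (H : ∀ F : Finset C, ∃ (B : Type u) (_ : CommRing B) (_ : Algebra B C),
      Module.Flat B C ∧ CAlg.IsCatenary B ∧ StrictMono (PrimeSpectrum.comap (algebraMap B C)) ∧
        ∀ z ∈ F, z ∈ Set.range (algebraMap B C)) :
    CAlg.IsCatenary C := by
  classical
  refine ⟨fun p q hpq => ?_, fun s t hh hl hs ht => ?_⟩
  · obtain ⟨B, _, _, -, hB, hmono, -⟩ := H ∅
    obtain ⟨n, hn⟩ := hB.1 (PrimeSpectrum.comap (algebraMap B C) p)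
      (PrimeSpectrum.comap (algebraMap B C) q) (hmono.monotone hpq)
    refine ⟨n, fun s hs hs' => hn (s.map _ hmono) ?_ ?_⟩
    · rw [LTSeries.head_map, hs]
    · rw [LTSeries.last_map, hs']
  · choose gen hgen using fun P : PrimeSpectrum C => (inferInstance : IsNoetherianRing C).noetherian P.asIdeal
    obtain ⟨B, _, _, hflat, hB, hmono, hmem⟩ := H ((Finset.univ.biUnion fun i => gen (s i)) ∪
      (Finset.univ.biUnion fun i => gen (t i)))
    haveI := hflat
    have key : ∀ P : PrimeSpectrum C, (∀ z ∈ gen P, z ∈ Set.range (algebraMap B C)) →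
        P.asIdeal ≤ (P.asIdeal.comap (algebraMap B C)).map (algebraMap B C) := by
      intro P hP
      conv_lhs => rw [← hgen P]
      refine Submodule.span_le.2 fun z hz => ?_
      obtain ⟨b, rfl⟩ := hP z hz
      exact Ideal.mem_map_of_mem _ (show b ∈ P.asIdeal.comap (algebraMap B C) by
        rw [Ideal.mem_comap, ← hgen P]; exact Submodule.subset_span hz)
    refine hB.2 (s.map _ hmono) (t.map _ hmono) ?_ ?_ (fun i => covBy_comap_of_flat hmono (hs i) (key _ ?_))
      (fun i => covBy_comap_of_flat hmono (ht i) (key _ ?_))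
    · rw [LTSeries.head_map, LTSeries.head_map, hh]
    · rw [LTSeries.last_map, LTSeries.last_map, hl]
    · exact fun z hz => hmem z (Finset.mem_union_left _ (Finset.mem_biUnion.2 ⟨_, Finset.mem_univ _, hz⟩))
    · exact fun z hz => hmem z (Finset.mem_union_right _ (Finset.mem_biUnion.2 ⟨_, Finset.mem_univ _, hz⟩))

end Groth.Agent.RatliffLib
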